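import Groth.Agent.Lib.PicFppf.Gens
import Groth.Agent.Lib.RefHull.Group

/-!
# Invertible modules trivial fppf-locally on the base come from the base
-/

set_option autoImplicit false
universe u

open CategoryTheory CategoryTheory.Limits AlgebraicGeometry

noncomputable section

namespace Groth.Agent.Lib.PicFppf.Descend

variable {X S : Scheme.{u}} (f : X ⟶ S)
  (ha : ∀ (T : Over S) (U : T.left.Opens), IsIso ((PicF.XTproj f T).app U))

include ha in
theorem bijective_app (V : S.Opens) : Function.Bijective (f.app V) := by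
  have h1 : IsIso ((pullback.snd f (𝟙 S)).app V) := ha (Over.mk (𝟙 S)) V
  have h2 : pullback.snd f (𝟙 S) = pullback.fst f (𝟙 S) ≫ f := by
    rw [pullback.condition, Category.comp_id]
  rw [h2, Scheme.Hom.comp_app] at h1
  haveI := h1
  haveI : IsIso (f.app V) :=
    @IsIso.of_isIso_comp_right _ _ _ _ _ (f.app V) ((pullback.fst f (𝟙 S)).app (f ⁻¹ᵁ V)) inferInstance h1
  exact ConcreteCategory.bijective_of_isIso (f.app V)

include ha in
theorem exists_pullback {L : X.Modules} (hL : PicF.IsInvertible L) {S' : Scheme.{u}} (h : S' ⟶ S)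
    [Flat h] [LocallyOfFinitePresentation h] [Surjective h]
    (e₀ : (Scheme.Modules.pullback (pullback.fst f h)).obj L ≅ Coh.structureModule (pullback f h)) :
    ∃ N : S.Modules, PicF.IsInvertible N ∧ Nonempty (L ≅ (Scheme.Modules.pullback f).obj N) := by
  have hg : ∀ y : S, ∃ (W : S.Opens) (e : Γ(L, f ⁻¹ᵁ W)), y ∈ W ∧ TensorMod.Gen.IsGen L (f ⁻¹ᵁ W) e :=
    fun y => by
      obtain ⟨y', rfl⟩ := h.surjective y
      exact Gens.exists_gens f ha hL h e₀ y'
  have hc := H52.PushInv.isIso_counit f (bijective_app f ha) hg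
  exact ⟨_, H52.PushInv.isInvertible_push f (bijective_app f ha) hg,
    ⟨(asIso ((Scheme.Modules.pullbackPushforwardAdjunction f).counit.app L)).symm⟩⟩

include ha in
theorem exists_pullback_family {L : X.Modules} (hL : PicF.IsInvertible L)
    (hcov : ∀ y : S, ∃ (S' : Scheme.{u}) (h : S' ⟶ S), Flat h ∧ LocallyOfFinitePresentation h ∧
      y ∈ Set.range h ∧
      Nonempty ((Scheme.Modules.pullback (pullback.fst f h)).obj L ≅ Coh.structureModule (pullback f h))) :
    ∃ N : S.Modules, PicF.IsInvertible N ∧ Nonempty (L ≅ (Scheme.Modules.pullback f).obj N) := by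
  have hg : ∀ y : S, ∃ (W : S.Opens) (e : Γ(L, f ⁻¹ᵁ W)), y ∈ W ∧ TensorMod.Gen.IsGen L (f ⁻¹ᵁ W) e :=
    fun y => by
      obtain ⟨S', h, hf, hp, ⟨y', rfl⟩, ⟨e₀⟩⟩ := hcov y
      exact Gens.exists_gens f ha hL h e₀ y'
  have hc := H52.PushInv.isIso_counit f (bijective_app f ha) hg
  exact ⟨_, H52.PushInv.isInvertible_push f (bijective_app f ha) hg,
    ⟨(asIso ((Scheme.Modules.pullbackPushforwardAdjunction f).counit.app L)).symm⟩⟩

end Groth.Agent.Lib.PicFppf.Descend
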