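import Groth.Agent.Lib.PicFppf.Glue
import Groth.Agent.Lib.PicFppf.Descend
import Groth.Agent.H4.PicZero.Transpose
import Groth.Prelude.Def_AbDual
import Groth.Prelude.Def_PicGrp

/-!
# Rigidified Picard classes form an fppf sheaf
-/

set_option autoImplicit false
set_option maxHeartbeats 200000
set_option linter.style.haveILetI false
universe u

open CategoryTheory CategoryTheory.Limits AlgebraicGeometry Opposite TopologicalSpace
open Groth.Agent.Lib Groth.Agent.Lib.PicFppf.Rigid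

noncomputable section

namespace Groth.Agent.Lib.PicFppf.Classes

local instance (Y : Scheme.{u}) : PicGrp.Law Y := Groth.Agent.Lib.TensorMod.Invertible.law Y

/-- Pullback of invertible classes. -/
def pc {Y' Y : Scheme.{u}} (g : Y' ⟶ Y) : PicLoc.PicSet Y →* PicLoc.PicSet Y' :=
  PicGrp.pullHom g (TensorMod.Pullback.pullMul g)

theorem pc_val {Y' Y : Scheme.{u}} (g : Y' ⟶ Y) (c : PicLoc.PicSet Y) : (pc g c).1 = PicF.pullCl g c.1 := rfl

theorem pc_comp {Y'' Y' Y : Scheme.{u}} (g : Y'' ⟶ Y') (h : Y' ⟶ Y) (c : PicLoc.PicSet Y) :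
    pc (g ≫ h) c = pc g (pc h c) :=
  Subtype.ext (PicLoc.pullCl_comp g h c.1)

theorem pc_id {Y : Scheme.{u}} (c : PicLoc.PicSet Y) : pc (𝟙 Y) c = c :=
  Subtype.ext (PicLoc.pullCl_id c.1)

theorem pc_congr {Y' Y : Scheme.{u}} {g h : Y' ⟶ Y} (e : g = h) (c : PicLoc.PicSet Y) : pc g c = pc h c := by
  rw [e]

variable {X S : Scheme.{u}} (f : X ⟶ S) (σ : S ⟶ X) (hσ : σ ≫ f = 𝟙 S)
  (ha : ∀ (T : Over S) (U : T.left.Opens), IsIso ((PicF.XTproj f T).app U))

/-- The rigidification along the section. -/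
def rig (T : Over S) : PicLoc.PicSet (PicF.XT f T) →* PicLoc.PicSet T.left := pc (PicF.secT f σ hσ T)

theorem rig_proj (T : Over S) (n : PicLoc.PicSet T.left) : rig f σ hσ T (pc (PicF.XTproj f T) n) = n := by
  rw [rig, ← pc_comp]
  exact (pc_congr (pullback.lift_snd _ _ _) n).trans (pc_id n)

theorem XTmap_fst {T T' : Over S} (g : T' ⟶ T) :
    PicF.XTmap f g ≫ pullback.fst f T.hom = pullback.fst f T'.hom :=
  (pullback.lift_fst _ _ _).trans (Category.comp_id _)

theorem XTmap_snd {T T' : Over S} (g : T' ⟶ T) :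
    PicF.XTmap f g ≫ pullback.snd f T.hom = pullback.snd f T'.hom ≫ g.left :=
  pullback.lift_snd _ _ _

theorem secT_fst (T : Over S) : PicF.secT f σ hσ T ≫ pullback.fst f T.hom = T.hom ≫ σ :=
  pullback.lift_fst _ _ _

theorem secT_snd (T : Over S) : PicF.secT f σ hσ T ≫ pullback.snd f T.hom = 𝟙 T.left :=
  pullback.lift_snd _ _ _

theorem secT_XTmap {T T' : Over S} (g : T' ⟶ T) :
    PicF.secT f σ hσ T' ≫ PicF.XTmap f g = g.left ≫ PicF.secT f σ hσ T := by
  apply pullback.hom_ext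
  · rw [Category.assoc, XTmap_fst, secT_fst, Category.assoc, secT_fst, ← Category.assoc g.left, Over.w g]
  · rw [Category.assoc, XTmap_snd, ← Category.assoc, secT_snd, Category.id_comp, Category.assoc, secT_snd,
      Category.comp_id]

theorem rig_map {T T' : Over S} (g : T' ⟶ T) (c : PicLoc.PicSet (PicF.XT f T)) :
    rig f σ hσ T' (pc (PicF.XTmap f g) c) = pc g.left (rig f σ hσ T c) := by
  rw [rig, rig, ← pc_comp, ← pc_comp, secT_XTmap]

theorem secT_proj (T : Over S) : PicF.secT f σ hσ T ≫ PicF.XTproj f T = 𝟙 T.left := pullback.lift_snd _ _ _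

include ha in
theorem bijective_sn (T : Over S) (J : Slice (PicF.XTproj f T)) : Function.Bijective J.sn.appTop := by
  have h : IsPullback (J.pr ≫ pullback.fst f T.hom) J.sn f (J.v ≫ T.hom) :=
    J.sq.paste_horiz (IsPullback.of_hasPullback f T.hom)
  haveI : IsIso (pullback.snd f (J.v ≫ T.hom)).appTop := ha (Over.mk (J.v ≫ T.hom)) ⊤
  haveI : IsIso h.isoPullback.hom.appTop := inferInstanceAs (IsIso (h.isoPullback.hom.app ⊤))
  have e : J.sn = h.isoPullback.hom ≫ pullback.snd f (J.v ≫ T.hom) := h.isoPullback_hom_snd.symm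
  rw [e, Scheme.Hom.comp_appTop]
  exact ConcreteCategory.bijective_of_isIso _

include ha in
theorem isIso_app_nested (T : Over S) (T' : Over T.left) (U : T'.left.Opens) :
    IsIso ((PicF.XTproj (PicF.XTproj f T) T').app U) := by
  haveI : IsIso ((pullback.snd f (T'.hom ≫ T.hom)).app U) := ha (Over.mk (T'.hom ≫ T.hom)) U
  have e : pullback.snd (PicF.XTproj f T) T'.hom =
      (pullbackLeftPullbackSndIso f T.hom T'.hom).hom ≫ pullback.snd f (T'.hom ≫ T.hom) :=
    (pullbackLeftPullbackSndIso_hom_snd f T.hom T'.hom).symm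
  show IsIso ((pullback.snd (PicF.XTproj f T) T'.hom).app U)
  rw [e, Scheme.Hom.comp_app]
  haveI : IsIso ((pullbackLeftPullbackSndIso f T.hom T'.hom).hom.app (pullback.snd f (T'.hom ≫ T.hom) ⁻¹ᵁ U)) :=
    Scheme.Hom.isIso_app _ _
      (fun x _ => (pullbackLeftPullbackSndIso f T.hom T'.hom).hom.surjective x)
  exact @IsIso.comp_isIso _ _ _ _ _ _ _ ‹_› this

/-- The map to the base change along a member. -/
def toXT (T : Over S) {U P : Scheme.{u}} (u : U ⟶ T.left) (a : P ⟶ PicF.XT f T) (b : P ⟶ U)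
    (h : a ≫ PicF.XTproj f T = b ≫ u) : P ⟶ PicF.XT f (AbDual.ovr T u) :=
  pullback.lift (a ≫ pullback.fst f T.hom) b (by
    show (a ≫ pullback.fst f T.hom) ≫ f = b ≫ u ≫ T.hom
    rw [← reassoc_of% h, Category.assoc, pullback.condition])

theorem toXT_map (T : Over S) {U P : Scheme.{u}} (u : U ⟶ T.left) (a : P ⟶ PicF.XT f T) (b : P ⟶ U)
    (h : a ≫ PicF.XTproj f T = b ≫ u) :
    toXT f T u a b h ≫ PicF.XTmap f (AbDual.ovrHom T u) = a := by
  apply pullback.hom_ext
  · rw [Category.assoc, XTmap_fst, toXT]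
    exact pullback.lift_fst _ _ _
  · rw [Category.assoc, XTmap_snd, toXT]
    refine (Category.assoc _ _ _).symm.trans ?_
    exact (congrArg (· ≫ u) (pullback.lift_snd _ _ _)).trans h.symm

include ha in
theorem eq_one_of_local (T : Over S) (d : PicLoc.PicSet (PicF.XT f T)) (hrig : rig f σ hσ T d = 1)
    (hcov : ∀ t : T.left, ∃ (U : Scheme.{u}) (u : U ⟶ T.left), Flat u ∧ LocallyOfFinitePresentation u ∧
      t ∈ Set.range u ∧ pc (PicF.XTmap f (AbDual.ovrHom T u)) d = 1) : d = 1 := by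
  obtain ⟨L, hL, rfl⟩ := PicGrp.exists_eq_cls d
  obtain ⟨N, hN, ⟨e⟩⟩ := Descend.exists_pullback_family (PicF.XTproj f T) (isIso_app_nested f ha T) hL fun t => by
    obtain ⟨U, u, hu, hu', ht, h1⟩ := hcov t
    refine ⟨U, u, hu, hu', ht, ?_⟩
    have h2 : pc (pullback.fst (PicF.XTproj f T) u) (PicGrp.cls L hL) = 1 := by
      rw [← toXT_map f T u (pullback.fst (PicF.XTproj f T) u) (pullback.snd (PicF.XTproj f T) u) pullback.condition,
        pc_comp, h1, map_one]
    exact (PicGrp.cls_eq_one_iff (PicLoc.isInvertible_pullback _ hL)).1 h2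
  have h3 : PicGrp.cls L hL = pc (PicF.XTproj f T) (PicGrp.cls N hN) := Subtype.ext (Quot.sound ⟨e⟩)
  rw [h3, rig_proj] at hrig
  rw [h3, hrig, map_one]

/-- The slice of a member. -/
def slice (T : Over S) {U : Scheme.{u}} (u : U ⟶ T.left) : Slice (PicF.XTproj f T) where
  V := U
  P := PicF.XT f (AbDual.ovr T u)
  pr := PicF.XTmap f (AbDual.ovrHom T u)
  sn := PicF.XTproj f (AbDual.ovr T u)
  v := u
  sq := by
    have h : IsPullback (PicF.XTmap f (AbDual.ovrHom T u) ≫ pullback.fst f T.hom)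
        (PicF.XTproj f (AbDual.ovr T u)) f (u ≫ T.hom) := by
      have e : PicF.XTmap f (AbDual.ovrHom T u) ≫ pullback.fst f T.hom = pullback.fst f (AbDual.ovr T u).hom := by
        exact XTmap_fst f _
      rw [e]
      exact IsPullback.of_hasPullback f (u ≫ T.hom)
    exact IsPullback.of_right h (XTmap_snd f (AbDual.ovrHom T u)) (IsPullback.of_hasPullback f T.hom)

theorem σ_slice (T : Over S) {U : Scheme.{u}} (u : U ⟶ T.left) :
    Slice.σ (PicF.secT f σ hσ T) (secT_proj f σ hσ T) (slice f T u) = PicF.secT f σ hσ (AbDual.ovr T u) := by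
  refine (slice f T u).sq.hom_ext ?_ ?_
  · exact (Slice.σ_pr _ _ _).trans (secT_XTmap f σ hσ (AbDual.ovrHom T u)).symm
  · exact (Slice.σ_sn _ _ _).trans (secT_proj f σ hσ (AbDual.ovr T u)).symm

include ha in
/-- Gluing of rigidified classes. -/
theorem exists_glue (T : Over S) {ι : Type u} (U : ι → Scheme.{u}) (u : ∀ i, U i ⟶ T.left)
    (hflat : ∀ i, Flat (u i)) (hlfp : ∀ i, LocallyOfFinitePresentation (u i))
    (hsurj : ∀ t : T.left, ∃ i, t ∈ Set.range (u i))
    (c : ∀ i, PicLoc.PicSet (PicF.XT f (AbDual.ovr T (u i)))) (hrig : ∀ i, rig f σ hσ _ (c i) = 1)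
    (hc : ∀ i j, pc (Slice.map (p₁ i j) (p₁_v (K := fun i => slice f T (u i)) i j)) (c i) =
      pc (Slice.map (p₂ i j) (p₂_v (K := fun i => slice f T (u i)) i j)) (c j)) :
    ∃ d : PicLoc.PicSet (PicF.XT f T), rig f σ hσ T d = 1 ∧
      ∀ i, pc (PicF.XTmap f (AbDual.ovrHom T (u i))) d = c i := by
  choose L hL hcL using fun i => PicGrp.exists_eq_cls (c i)
  obtain ⟨M, hM, hiM⟩ := Glue.exists_glue (PicF.secT f σ hσ T) (secT_proj f σ hσ T) (bijective_sn f ha T)
    (fun i => slice f T (u i)) L hflat hlfp hsurj hL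
    (fun i => by
      rw [σ_slice f σ hσ T (u i)]
      refine (PicGrp.cls_eq_one_iff (PicLoc.isInvertible_pullback _ (hL i))).1 ?_
      have := hrig i
      rw [hcL i] at this
      exact this)
    (fun i j => by
      refine (PicGrp.cls_eq_cls_iff (PicLoc.isInvertible_pullback _ (hL i))
        (PicLoc.isInvertible_pullback _ (hL j))).1 ?_
      have := hc i j
      rw [hcL i, hcL j] at this
      exact this)
  let m := PicGrp.cls M hM
  have hm : ∀ i, pc (PicF.XTmap f (AbDual.ovrHom T (u i))) m = c i := fun i => by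
    rw [hcL i]
    exact Subtype.ext (Quot.sound (hiM i))
  refine ⟨m * (pc (PicF.XTproj f T) (rig f σ hσ T m))⁻¹, ?_, fun i => ?_⟩
  · rw [map_mul, map_inv, rig_proj, mul_inv_cancel]
  · have e : PicF.XTmap f (AbDual.ovrHom T (u i)) ≫ PicF.XTproj f T =
        PicF.XTproj f (AbDual.ovr T (u i)) ≫ u i := (slice f T (u i)).sq.w
    rw [map_mul, map_inv, ← pc_comp, e, pc_comp, hm]
    have h1 := rig_map f σ hσ (AbDual.ovrHom T (u i)) m
    rw [hm, hrig] at h1
    rw [show pc (u i) (rig f σ hσ T m) = 1 from h1.symm, map_one, inv_one, mul_one]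

theorem rig_eq_one_of (T : Over S) (c : PicF.Rig f σ hσ T) :
    rig f σ hσ T ⟨c.1, c.2.1⟩ = 1 :=
  Subtype.ext (c.2.2.trans PicGrp.one_val.symm)

/-- A rigidified element as a rigidified class. -/
def toRig (T : Over S) (d : PicLoc.PicSet (PicF.XT f T)) (h : rig f σ hσ T d = 1) : PicF.Rig f σ hσ T :=
  ⟨d.1, d.2, (congrArg Subtype.val h).trans PicGrp.one_val⟩

include ha in
/-- Rigidified classes are determined fppf-locally. -/
theorem ext_of_local (T : Over S) {c c' : PicLoc.PicSet (PicF.XT f T)} (hr : rig f σ hσ T c = 1)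
    (hr' : rig f σ hσ T c' = 1)
    (hcov : ∀ t : T.left, ∃ (U : Scheme.{u}) (u : U ⟶ T.left), Flat u ∧ LocallyOfFinitePresentation u ∧
      t ∈ Set.range u ∧ pc (PicF.XTmap f (AbDual.ovrHom T u)) c = pc (PicF.XTmap f (AbDual.ovrHom T u)) c') :
    c = c' := by
  refine mul_inv_eq_one.1 (eq_one_of_local f σ hσ ha T _ ?_ fun t => ?_)
  · rw [map_mul, map_inv, hr, hr', inv_one, mul_one]
  · obtain ⟨U, u, h1, h2, h3, h4⟩ := hcov t
    exact ⟨U, u, h1, h2, h3, by rw [map_mul, map_inv, h4, mul_inv_cancel]⟩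

/-- The map from a double overlap to the base change over it. -/
def ovl (T : Over S) {ι : Type u} {U : ι → Scheme.{u}} (u : ∀ i, U i ⟶ T.left) (i j : ι) :
    (K2 (fun i => slice f T (u i)) i j).P ⟶
      PicF.XT f (AbDual.ovr (AbDual.ovr T (u i)) (pullback.fst (u i) (u j))) :=
  pullback.lift (pullback.fst (PicF.XTproj f T) (pullback.fst (u i) (u j) ≫ u i) ≫ pullback.fst f T.hom)
    (pullback.snd (PicF.XTproj f T) (pullback.fst (u i) (u j) ≫ u i)) (by
      have h := congrArg (· ≫ T.hom)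
        (pullback.condition (f := PicF.XTproj f T) (g := pullback.fst (u i) (u j) ≫ u i))
      simp only [Category.assoc] at h
      show (_ ≫ pullback.fst f T.hom) ≫ f = _ ≫ pullback.fst (u i) (u j) ≫ u i ≫ T.hom
      exact ((Category.assoc _ _ _).trans (congrArg (pullback.fst (PicF.XTproj f T) (pullback.fst (u i) (u j) ≫ u i) ≫ ·)
        (pullback.condition (f := f) (g := T.hom)))).trans h)

theorem ovl_pr (T : Over S) {ι : Type u} {U : ι → Scheme.{u}} (u : ∀ i, U i ⟶ T.left) (i j : ι) :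
    ovl f T u i j ≫ pullback.fst f (AbDual.ovr (AbDual.ovr T (u i)) (pullback.fst (u i) (u j))).hom =
      (K2 (fun i => slice f T (u i)) i j).pr ≫ pullback.fst f T.hom :=
  pullback.lift_fst _ _ _

theorem ovl_sn (T : Over S) {ι : Type u} {U : ι → Scheme.{u}} (u : ∀ i, U i ⟶ T.left) (i j : ι) :
    ovl f T u i j ≫ pullback.snd f (AbDual.ovr (AbDual.ovr T (u i)) (pullback.fst (u i) (u j))).hom =
      (K2 (fun i => slice f T (u i)) i j).sn :=
  pullback.lift_snd _ _ _

theorem ovl_fst (T : Over S) {ι : Type u} {U : ι → Scheme.{u}} (u : ∀ i, U i ⟶ T.left) (i j : ι) :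
    ovl f T u i j ≫ PicF.XTmap f (AbDual.ovrHom (AbDual.ovr T (u i)) (pullback.fst (u i) (u j))) =
      Slice.map (p₁ i j) (p₁_v (K := fun i => slice f T (u i)) i j) := by
  apply pullback.hom_ext
  · rw [Category.assoc, XTmap_fst, ovl_pr]
    refine Eq.trans ?_ (congrArg (Slice.map (p₁ i j) (p₁_v (K := fun i => slice f T (u i)) i j) ≫ ·)
      (XTmap_fst f (AbDual.ovrHom T (u i))))
    exact (congrArg (· ≫ pullback.fst f T.hom) (Slice.map_pr _ _)).symm.trans (Category.assoc _ _ _)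
  · rw [Category.assoc, XTmap_snd, ← Category.assoc, ovl_sn]
    exact (Slice.map_sn (K := K2 (fun i => slice f T (u i)) i j) (K' := slice f T (u i)) (p₁ i j)
      (p₁_v (K := fun i => slice f T (u i)) i j)).symm

theorem ovl_snd (T : Over S) {ι : Type u} {U : ι → Scheme.{u}} (u : ∀ i, U i ⟶ T.left) (i j : ι)
    (g : AbDual.ovr (AbDual.ovr T (u i)) (pullback.fst (u i) (u j)) ⟶ AbDual.ovr T (u j))
    (hg : g.left = pullback.snd (u i) (u j)) :
    ovl f T u i j ≫ PicF.XTmap f g = Slice.map (p₂ i j) (p₂_v (K := fun i => slice f T (u i)) i j) := by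
  apply pullback.hom_ext
  · rw [Category.assoc, XTmap_fst, ovl_pr]
    refine Eq.trans ?_ (congrArg (Slice.map (p₂ i j) (p₂_v (K := fun i => slice f T (u i)) i j) ≫ ·)
      (XTmap_fst f (AbDual.ovrHom T (u j))))
    exact (congrArg (· ≫ pullback.fst f T.hom) (Slice.map_pr _ _)).symm.trans (Category.assoc _ _ _)
  · rw [Category.assoc, XTmap_snd, ← Category.assoc, ovl_sn, hg]
    exact (Slice.map_sn (K := K2 (fun i => slice f T (u i)) i j) (K' := slice f T (u j)) (p₂ i j)
      (p₂_v (K := fun i => slice f T (u i)) i j)).symm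

end Groth.Agent.Lib.PicFppf.Classes
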