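import Groth.Agent.Lib.PicFppf.Classes

/-!
# Rigidified classes are the points of a scheme representing the fppf Picard functor
-/

set_option autoImplicit false
set_option maxHeartbeats 200000
set_option linter.style.haveILetI false
universe u

open CategoryTheory CategoryTheory.Limits AlgebraicGeometry
open Groth.Agent.Lib Groth.Agent.Lib.PicFppf.Rigid Groth.Agent.Lib.PicFppf.Classes

noncomputable section

namespace Groth.Agent.Lib.PicFppf.RelPic

local instance (Y : Scheme.{u}) : PicGrp.Law Y := Groth.Agent.Lib.TensorMod.Invertible.law Y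

variable {X S : Scheme.{u}} (f : X ⟶ S) (σ : S ⟶ X) (hσ : σ ≫ f = 𝟙 S)
  (ha : ∀ (T : Over S) (U : T.left.Opens), IsIso ((PicF.XTproj f T).app U))
  {P : Over S} {φ : ∀ T : Over S, PicF.Cl (PicF.XT f T) → (T ⟶ P)}
  (hP : AbDual.IsRelPicK Scheme.fppfPrecoverage f P φ)

include hP

theorem φ_natural {T T' : Over S} (g : T' ⟶ T) (c : PicLoc.PicSet (PicF.XT f T)) :
    φ T' (pc (PicF.XTmap f g) c).1 = g ≫ φ T c.1 :=
  hP.natural T T' g c.1 c.2

/-- Classes from the base do not change the point. -/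
theorem φ_mul_proj (T : Over S) (c : PicLoc.PicSet (PicF.XT f T)) (n : PicLoc.PicSet T.left) :
    φ T (c * pc (PicF.XTproj f T) n).1 = φ T c.1 := by
  obtain ⟨L, hL, rfl⟩ := PicGrp.exists_eq_cls n
  apply Over.OverMorphism.ext
  refine Groth.Agent.H4.PicZero.hom_ext_of_fppf fun x => ?_
  obtain ⟨O, hO, ⟨e⟩⟩ := hL x
  let j : AbDual.ovr T O.ι ⟶ T := AbDual.ovrHom T O.ι
  refine ⟨O, O.ι, inferInstanceAs (Flat O.ι), ⟨⟨x, hO⟩, rfl⟩, ?_⟩
  have htriv : pc j.left (PicGrp.cls L hL) = 1 := by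
    apply Subtype.ext
    rw [pc_val, PicGrp.one_val]
    exact Quot.sound ⟨(Scheme.Modules.restrictFunctorIsoPullback O.ι).symm.app L ≪≫ e⟩
  have h1 : pc (PicF.XTmap f j) (c * pc (PicF.XTproj f T) (PicGrp.cls L hL)) = pc (PicF.XTmap f j) c := by
    have h2 : PicF.XTmap f j ≫ PicF.XTproj f T = PicF.XTproj f (AbDual.ovr T O.ι) ≫ j.left := XTmap_snd f j
    rw [map_mul, ← pc_comp _ (PicF.XTproj f T), h2, pc_comp, htriv, map_one, mul_one]
  have h3 := φ_natural f hP j (c * pc (PicF.XTproj f T) (PicGrp.cls L hL))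
  rw [h1, φ_natural f hP j c] at h3
  exact (congrArg Over.Hom.left h3).symm

include ha in
theorem injective (T : Over S) {c c' : PicLoc.PicSet (PicF.XT f T)} (hr : rig f σ hσ T c = 1)
    (hr' : rig f σ hσ T c' = 1) (h : φ T c.1 = φ T c'.1) : c = c' := by
  obtain ⟨R, hR, hloc⟩ := hP.locallyInjective T c.1 c'.1 c.2 c'.2 h
  obtain ⟨hcov, hprop⟩ := Groth.Agent.H4.PicZero.fppf_cover_props hR
  refine ext_of_local f σ hσ ha T hr hr' fun t => ?_
  obtain ⟨U, u, hu, ht⟩ := hcov t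
  obtain ⟨hflat, hlfp⟩ := hprop u hu
  exact ⟨U, u, hflat, hlfp, ht, Subtype.ext (hloc u hu)⟩

include ha in
theorem surjective (T : Over S) (g : T ⟶ P) :
    ∃ d : PicLoc.PicSet (PicF.XT f T), rig f σ hσ T d = 1 ∧ φ T d.1 = g := by
  obtain ⟨R, hR, hloc⟩ := hP.locallySurjective T g
  obtain ⟨hcov, hprop⟩ := Groth.Agent.H4.PicZero.fppf_cover_props hR
  choose U u hu ht using hcov
  choose c hcinv hc using fun t => hloc (u t) (hu t)
  let c₀ : ∀ t, PicLoc.PicSet (PicF.XT f (AbDual.ovr T (u t))) := fun t => ⟨c t, hcinv t⟩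
  let c₁ : ∀ t, PicLoc.PicSet (PicF.XT f (AbDual.ovr T (u t))) := fun t =>
    c₀ t * pc (PicF.XTproj f _) (rig f σ hσ _ (c₀ t))⁻¹
  have hc₁ : ∀ t, rig f σ hσ _ (c₁ t) = 1 := fun t => by
    rw [map_mul, rig_proj, mul_inv_cancel]
  have hφ : ∀ t, φ _ (c₁ t).1 = AbDual.ovrHom T (u t) ≫ g := fun t =>
    (φ_mul_proj f hP _ _ _).trans (hc t)
  obtain ⟨d, hd, hdc⟩ := exists_glue f σ hσ ha T U u (fun t => (hprop _ (hu t)).1) (fun t => (hprop _ (hu t)).2)
    (fun t => ⟨t, ht t⟩) c₁ hc₁ fun i j => by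
      let g₂ : AbDual.ovr (AbDual.ovr T (u i)) (pullback.fst (u i) (u j)) ⟶ AbDual.ovr T (u j) :=
        Over.homMk (pullback.snd (u i) (u j)) (by
          show pullback.snd (u i) (u j) ≫ u j ≫ T.hom = pullback.fst (u i) (u j) ≫ u i ≫ T.hom
          rw [← Category.assoc, ← pullback.condition, Category.assoc])
      refine (pc_congr (ovl_fst f T u i j).symm _).trans (((pc_comp _ _ _).trans ?_).trans
        ((pc_comp _ _ _).symm.trans (pc_congr (ovl_snd f T u i j g₂ rfl) _)))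
      refine congrArg _ ?_
      refine injective f σ hσ ha hP _ ?_ ?_ ?_
      · exact (rig_map f σ hσ _ (c₁ i)).trans ((congrArg _ (hc₁ i)).trans (map_one _))
      · exact (rig_map f σ hσ g₂ (c₁ j)).trans ((congrArg _ (hc₁ j)).trans (map_one _))
      · refine (φ_natural f hP _ (c₁ i)).trans (Eq.trans ?_ (φ_natural f hP g₂ (c₁ j)).symm)
        rw [hφ, hφ, ← Category.assoc, ← Category.assoc]
        congr 1
        exact Over.OverMorphism.ext pullback.condition
  refine ⟨d, hd, Over.OverMorphism.ext (Groth.Agent.H4.PicZero.hom_ext_of_fppf fun t => ?_)⟩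
  refine ⟨U t, u t, (hprop _ (hu t)).1, ht t, ?_⟩
  have h1 := φ_natural f hP (AbDual.ovrHom T (u t)) d
  rw [hdc, hφ] at h1
  exact (congrArg Over.Hom.left h1).symm

end Groth.Agent.Lib.PicFppf.RelPic
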