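import Groth.Prelude.Def_AbDual
import Groth.Agent.Lib.PicFppf.RelPic

/-!
# Base change of a scheme representing the fppf Picard functor
-/

set_option autoImplicit false
set_option maxHeartbeats 200000
set_option linter.style.haveILetI false
universe u

open CategoryTheory CategoryTheory.Limits AlgebraicGeometry
open Groth.Agent.Lib

noncomputable section

namespace Groth.Agent.Lib.PicFppf.BaseChange

variable {X S S' : Scheme.{u}} (f : X ⟶ S) (g : S' ⟶ S)

/-- An `S'`-scheme as an `S`-scheme. -/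
abbrev down (T : Over S') : Over S := Over.mk (T.hom ≫ g)

/-- A map of `S'`-schemes as a map of `S`-schemes. -/
abbrev downMap {T' T : Over S'} (m : T' ⟶ T) : down g T' ⟶ down g T :=
  Over.homMk m.left (by show m.left ≫ T.hom ≫ g = T'.hom ≫ g; rw [← Category.assoc, Over.w m])

/-- `X ×_S T ⟶ (X ×_S S') ×_S' T` -/
def e (T : Over S') : PicF.XT f (down g T) ⟶ PicF.XT (pullback.snd f g) T :=
  pullback.lift (pullback.lift (pullback.fst f (T.hom ≫ g)) (pullback.snd f (T.hom ≫ g) ≫ T.hom)
    (pullback.condition.trans (Category.assoc _ _ _).symm)) (pullback.snd f (T.hom ≫ g))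
    (pullback.lift_snd _ _ _)

theorem e_fst (T : Over S') : e f g T ≫ pullback.fst (pullback.snd f g) T.hom ≫ pullback.fst f g =
    pullback.fst f (T.hom ≫ g) := by
  rw [← Category.assoc]
  exact (congrArg (· ≫ pullback.fst f g) (pullback.lift_fst _ _ _)).trans (pullback.lift_fst _ _ _)

theorem e_snd (T : Over S') : e f g T ≫ pullback.snd (pullback.snd f g) T.hom = pullback.snd f (T.hom ≫ g) :=
  pullback.lift_snd _ _ _

theorem hom_ext {T : Over S'} {W : Scheme.{u}} {a b : W ⟶ PicF.XT (pullback.snd f g) T}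
    (h₁ : a ≫ pullback.fst (pullback.snd f g) T.hom ≫ pullback.fst f g =
      b ≫ pullback.fst (pullback.snd f g) T.hom ≫ pullback.fst f g)
    (h₂ : a ≫ pullback.snd (pullback.snd f g) T.hom = b ≫ pullback.snd (pullback.snd f g) T.hom) : a = b := by
  refine pullback.hom_ext (pullback.hom_ext ?_ ?_) h₂
  · simpa only [Category.assoc] using h₁
  · rw [Category.assoc, Category.assoc, pullback.condition, ← Category.assoc, h₂, Category.assoc]

theorem e_natural {T' T : Over S'} (m : T' ⟶ T) :
    PicF.XTmap f (downMap g m) ≫ e f g T = e f g T' ≫ PicF.XTmap (pullback.snd f g) m := by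
  apply hom_ext
  · rw [Category.assoc, e_fst, Category.assoc, ← Category.assoc (PicF.XTmap (pullback.snd f g) m),
      Classes.XTmap_fst, e_fst]
    exact Classes.XTmap_fst f (downMap g m)
  · rw [Category.assoc, e_snd, Category.assoc, Classes.XTmap_snd, ← Category.assoc, e_snd]
    exact Classes.XTmap_snd f (downMap g m)

/-- `(X ×_S S') ×_S' U ⟶ X ×_S U` -/
def d (T : Over S') {U : Scheme.{u}} (u : U ⟶ T.left) :
    PicF.XT (pullback.snd f g) (AbDual.ovr T u) ⟶ PicF.XT f (AbDual.ovr (down g T) u) :=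
  pullback.lift (pullback.fst (pullback.snd f g) (u ≫ T.hom) ≫ pullback.fst f g)
    (pullback.snd (pullback.snd f g) (u ≫ T.hom)) (by
      show _ = _ ≫ u ≫ T.hom ≫ g
      rw [Category.assoc, pullback.condition, ← Category.assoc, pullback.condition]
      simp only [Category.assoc])

theorem d_fst (T : Over S') {U : Scheme.{u}} (u : U ⟶ T.left) :
    d f g T u ≫ pullback.fst f (AbDual.ovr (down g T) u).hom =
      pullback.fst (pullback.snd f g) (u ≫ T.hom) ≫ pullback.fst f g := pullback.lift_fst _ _ _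

theorem d_snd (T : Over S') {U : Scheme.{u}} (u : U ⟶ T.left) :
    d f g T u ≫ pullback.snd f (AbDual.ovr (down g T) u).hom =
      pullback.snd (pullback.snd f g) (u ≫ T.hom) := pullback.lift_snd _ _ _

theorem e_d (T : Over S') {U : Scheme.{u}} (u : U ⟶ T.left) :
    e f g (AbDual.ovr T u) ≫ d f g T u = PicF.XTmap f
      (Over.homMk (𝟙 U) (by show 𝟙 U ≫ u ≫ T.hom ≫ g = (u ≫ T.hom) ≫ g; simp) :
        down g (AbDual.ovr T u) ⟶ AbDual.ovr (down g T) u) := by
  apply pullback.hom_ext
  · rw [Category.assoc, d_fst, Classes.XTmap_fst]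
    exact e_fst f g (AbDual.ovr T u)
  · rw [Category.assoc, d_snd, Classes.XTmap_snd]
    exact (e_snd f g (AbDual.ovr T u)).trans (Category.comp_id _).symm

theorem d_map (T : Over S') {U : Scheme.{u}} (u : U ⟶ T.left) :
    d f g T u ≫ PicF.XTmap f (AbDual.ovrHom (down g T) u) ≫ e f g T =
      PicF.XTmap (pullback.snd f g) (AbDual.ovrHom T u) := by
  apply hom_ext
  · rw [Category.assoc, Category.assoc, e_fst]
    refine (congrArg (d f g T u ≫ ·) (Classes.XTmap_fst f (AbDual.ovrHom (down g T) u))).trans ?_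
    refine (d_fst f g T u).trans ?_
    rw [← Category.assoc, Classes.XTmap_fst]
    rfl
  · rw [Category.assoc, Category.assoc, e_snd, Classes.XTmap_snd]
    refine (congrArg (d f g T u ≫ ·) (Classes.XTmap_snd f (AbDual.ovrHom (down g T) u))).trans ?_
    rw [← Category.assoc]
    exact congrArg (· ≫ u) (d_snd f g T u)

variable {P : Over S} (φ : ∀ T : Over S, PicF.Cl (PicF.XT f T) → (T ⟶ P))

/-- The base change of the representing scheme. -/
abbrev bcP (P : Over S) : Over S' := Over.mk (pullback.snd P.hom g)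

/-- The representing maps after base change. -/
def bcφ (T : Over S') (c : PicF.Cl (PicF.XT (pullback.snd f g) T)) : T ⟶ bcP g P :=
  Over.homMk (pullback.lift (φ (down g T) (PicF.pullCl (e f g T) c)).left T.hom (Over.w _))
    (pullback.lift_snd _ _ _)

theorem bcφ_fst (T : Over S') (c : PicF.Cl (PicF.XT (pullback.snd f g) T)) :
    (bcφ f g φ T c).left ≫ pullback.fst P.hom g = (φ (down g T) (PicF.pullCl (e f g T) c)).left :=
  pullback.lift_fst _ _ _

theorem isInvertibleCl_pull {Y' Y : Scheme.{u}} (h : Y' ⟶ Y) {c : PicF.Cl Y} (hc : PicF.IsInvertibleCl c) :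
    PicF.IsInvertibleCl (PicF.pullCl h c) := by
  obtain ⟨L, rfl, hL⟩ := hc
  exact ⟨_, rfl, PicLoc.isInvertible_pullback _ hL⟩

theorem ext_fst {T : Over S'} {a b : T ⟶ bcP g P}
    (h : a.left ≫ pullback.fst P.hom g = b.left ≫ pullback.fst P.hom g) : a = b :=
  Over.OverMorphism.ext (pullback.hom_ext h ((Over.w a).trans (Over.w b).symm))

/-- **Base change.** -/
theorem isRelPicK (hP : AbDual.IsRelPicK Scheme.fppfPrecoverage f P φ) :
    AbDual.IsRelPicK Scheme.fppfPrecoverage (pullback.snd f g) (bcP g P) (bcφ f g φ) := by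
  constructor
  · intro T T' m c hc
    apply ext_fst
    rw [bcφ_fst, Over.comp_left, Category.assoc, bcφ_fst, ← PicLoc.pullCl_comp, ← e_natural,
      PicLoc.pullCl_comp, hP.natural _ _ _ _ (isInvertibleCl_pull _ hc)]
    rfl
  · intro T a
    let a₁ : down g T ⟶ P := Over.homMk (a.left ≫ pullback.fst P.hom g) (by
      show _ = T.hom ≫ g
      rw [Category.assoc, pullback.condition, ← Category.assoc]
      exact congrArg (· ≫ g) (Over.w a))
    obtain ⟨R, hR, hloc⟩ := hP.locallySurjective (down g T) a₁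
    refine ⟨R, hR, fun U u hu => ?_⟩
    obtain ⟨c, hc, hcφ⟩ := hloc u hu
    refine ⟨PicF.pullCl (d f g T u) c, isInvertibleCl_pull _ hc, ?_⟩
    apply ext_fst
    rw [bcφ_fst, ← PicLoc.pullCl_comp, e_d, hP.natural _ _ _ _ hc, hcφ]
    show 𝟙 U ≫ u ≫ a.left ≫ pullback.fst P.hom g = (u ≫ a.left) ≫ pullback.fst P.hom g
    rw [Category.id_comp, Category.assoc]
  · intro T c c' hc hc' h
    have h1 : φ (down g T) (PicF.pullCl (e f g T) c) = φ (down g T) (PicF.pullCl (e f g T) c') := by
      apply Over.OverMorphism.ext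
      rw [← bcφ_fst f g φ T c, ← bcφ_fst f g φ T c', h]
    obtain ⟨R, hR, hloc⟩ := hP.locallyInjective (down g T) _ _ (isInvertibleCl_pull _ hc)
      (isInvertibleCl_pull _ hc') h1
    refine ⟨R, hR, fun U u hu => ?_⟩
    rw [← d_map, PicLoc.pullCl_comp, PicLoc.pullCl_comp, PicLoc.pullCl_comp, PicLoc.pullCl_comp]
    exact congrArg (PicF.pullCl (d f g T u)) (hloc u hu)

end Groth.Agent.Lib.PicFppf.BaseChange
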