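import Mathlib.AlgebraicGeometry.Sites.Fpqc
import Mathlib.RingTheory.Polynomial.Basic
import Mathlib.AlgebraicGeometry.GammaSpecAdjunction

/-!
# Functions descend along flat surjective quasi-compact morphisms
-/

set_option autoImplicit false
universe u

open CategoryTheory CategoryTheory.Limits AlgebraicGeometry Opposite Polynomial

noncomputable section

namespace Groth.Agent.Lib.PicFppf.Fns

variable {X Y : Scheme.{u}}

/-- The affine line over the integers. -/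
abbrev A1 : Scheme.{u} := Spec (CommRingCat.of (Polynomial (ULift.{u} ℤ)))

/-- A global function as a morphism to the affine line. -/
def fnHom {T : Scheme.{u}} (a : Γ(T, ⊤)) : T ⟶ A1.{u} :=
  T.toSpecΓ ≫ Spec.map (CommRingCat.ofHom
    (Polynomial.eval₂RingHom (Int.castRingHom Γ(T, ⊤) |>.comp ULift.ringEquiv.toRingHom) a))

/-- The coordinate. -/
def tvar : Γ(A1.{u}, ⊤) := (Scheme.ΓSpecIso _).inv Polynomial.X

theorem fnHom_tvar {T : Scheme.{u}} (a : Γ(T, ⊤)) : (fnHom a).appTop tvar = a := by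
  have h := ConcreteCategory.congr_hom (Scheme.ΓSpecIso_inv_naturality (CommRingCat.ofHom
    (Polynomial.eval₂RingHom (Int.castRingHom Γ(T, ⊤) |>.comp ULift.ringEquiv.toRingHom) a))) Polynomial.X
  rw [fnHom, Scheme.Hom.comp_appTop, tvar, CommRingCat.comp_apply]
  rw [CommRingCat.comp_apply, CommRingCat.comp_apply] at h
  rw [← h, Scheme.toSpecΓ_appTop]
  erw [← CommRingCat.comp_apply, Iso.inv_hom_id]
  simp

theorem hom_ext {T : Scheme.{u}} {u v : T ⟶ A1.{u}} (h : u.appTop tvar = v.appTop tvar) : u = v := by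
  apply ext_of_isAffine
  refine (cancel_epi (Scheme.ΓSpecIso _).inv).1 ?_
  ext1
  refine Polynomial.ringHom_ext (fun r => ?_) (by simpa [tvar] using h)
  exact RingHom.congr_fun (Subsingleton.elim
    (((((Scheme.ΓSpecIso _).inv ≫ u.appTop).hom.comp Polynomial.C).comp ULift.ringEquiv.symm.toRingHom) : ℤ →+* _)
    ((((Scheme.ΓSpecIso _).inv ≫ v.appTop).hom.comp Polynomial.C).comp ULift.ringEquiv.symm.toRingHom)) r.down

theorem topIso_inv (U : Y.Opens) :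
    U.topIso.inv = U.ι.appLE U ⊤ (by rw [Scheme.Opens.ι_preimage_self]) := by
  simp only [Scheme.Opens.topIso, Scheme.Hom.appLE, Scheme.Opens.ι_app, eqToIso.inv,
    Functor.mapIso_inv, ← Functor.map_comp]
  erw [← Functor.map_comp]
  rfl

theorem topIso_inv_restrict (q : X ⟶ Y) (U : Y.Opens) :
    U.topIso.inv ≫ (q ∣_ U).appTop = q.app U ≫ (q ⁻¹ᵁ U).topIso.inv := by
  have e1 : (q ∣_ U).appTop = (q ∣_ U).appLE ⊤ ⊤ le_rfl := by
    rw [Scheme.Hom.appTop, Scheme.Hom.app_eq_appLE]; rfl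
  rw [e1, topIso_inv, topIso_inv, Scheme.Hom.app_eq_appLE,
    Scheme.Hom.appLE_comp_appLE, Scheme.Hom.appLE_comp_appLE]
  congr 1
  exact morphismRestrict_ι q U

variable (q : X ⟶ Y) [Flat q] [Surjective q] [QuasiCompact q]

instance (U : Y.Opens) : EffectiveEpi (q ∣_ U) := by
  haveI : Flat (q ∣_ U) := IsZariskiLocalAtTarget.restrict ‹Flat q› U
  haveI : Surjective (q ∣_ U) := IsZariskiLocalAtTarget.restrict ‹Surjective q› U
  haveI : QuasiCompact (q ∣_ U) := IsZariskiLocalAtTarget.restrict ‹QuasiCompact q› U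
  infer_instance

/-- Pullback of functions is injective. -/
theorem app_injective (U : Y.Opens) : Function.Injective (q.app U) := by
  have : Function.Injective (q ∣_ U).appTop := fun a b hab => by
    have h : (q ∣_ U) ≫ fnHom a = (q ∣_ U) ≫ fnHom b := hom_ext (by
      rw [Scheme.Hom.comp_appTop, Scheme.Hom.comp_appTop, CommRingCat.comp_apply,
        CommRingCat.comp_apply, fnHom_tvar, fnHom_tvar, hab])
    rw [← fnHom_tvar a, ← fnHom_tvar b, (cancel_epi (q ∣_ U)).1 h]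
  intro a b hab
  have e : ∀ c : Γ(Y, U), (q ∣_ U).appTop (U.topIso.inv c) =
      (q ⁻¹ᵁ U).topIso.inv (q.app U c) := fun c =>
    ConcreteCategory.congr_hom (topIso_inv_restrict q U) c
  exact (ConcreteCategory.bijective_of_isIso U.topIso.inv).1 (this (by rw [e, e, hab]))

/-- A function equalised by the two projections descends. -/
theorem mem_range_app (U : Y.Opens) (a : Γ(X, q ⁻¹ᵁ U))
    (hU : (pullback.fst q q) ⁻¹ᵁ (q ⁻¹ᵁ U) = (pullback.snd q q) ⁻¹ᵁ (q ⁻¹ᵁ U))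
    (ha : (pullback.fst q q).app (q ⁻¹ᵁ U) a =
      (pullback q q).presheaf.map (eqToHom hU).op ((pullback.snd q q).app (q ⁻¹ᵁ U) a)) :
    a ∈ Set.range (q.app U) := by
  let A : (q ⁻¹ᵁ U : Scheme.{u}) ⟶ A1.{u} := fnHom ((q ⁻¹ᵁ U).topIso.inv a)
  have hA : ∀ {Z : Scheme.{u}} (g₁ g₂ : Z ⟶ (q ⁻¹ᵁ U : Scheme.{u})),
      g₁ ≫ (q ∣_ U) = g₂ ≫ (q ∣_ U) → g₁ ≫ A = g₂ ≫ A := by
    intro Z g₁ g₂ hg
    refine hom_ext ?_
    rw [Scheme.Hom.comp_appTop, Scheme.Hom.comp_appTop, CommRingCat.comp_apply, CommRingCat.comp_apply,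
      fnHom_tvar]
    have hc : (g₁ ≫ (q ⁻¹ᵁ U).ι) ≫ q = (g₂ ≫ (q ⁻¹ᵁ U).ι) ≫ q := by
      rw [Category.assoc, Category.assoc, ← morphismRestrict_ι, ← Category.assoc, hg, Category.assoc]
    let k := pullback.lift (g₁ ≫ (q ⁻¹ᵁ U).ι) (g₂ ≫ (q ⁻¹ᵁ U).ι) hc
    have e : ∀ (g : Z ⟶ (q ⁻¹ᵁ U : Scheme.{u})) (le : ⊤ ≤ (g ≫ (q ⁻¹ᵁ U).ι) ⁻¹ᵁ (q ⁻¹ᵁ U)),
        g.appTop ((q ⁻¹ᵁ U).topIso.inv a) = (g ≫ (q ⁻¹ᵁ U).ι).appLE (q ⁻¹ᵁ U) ⊤ le a := by
      intro g le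
      have e1 := Scheme.Hom.appLE_comp_appLE g (q ⁻¹ᵁ U).ι (q ⁻¹ᵁ U) ⊤ ⊤
        (by rw [Scheme.Opens.ι_preimage_self]) le_rfl
      rw [← e1, CommRingCat.comp_apply, topIso_inv, Scheme.Hom.appTop, Scheme.Hom.app_eq_appLE]
      rfl
    have le₁ : ⊤ ≤ (g₁ ≫ (q ⁻¹ᵁ U).ι) ⁻¹ᵁ (q ⁻¹ᵁ U) := fun z _ => (g₁ z).2
    have le₂ : ⊤ ≤ (g₂ ≫ (q ⁻¹ᵁ U).ι) ⁻¹ᵁ (q ⁻¹ᵁ U) := fun z _ => (g₂ z).2
    rw [e g₁ le₁, e g₂ le₂]
    have h1 : k ≫ pullback.fst q q = g₁ ≫ (q ⁻¹ᵁ U).ι := pullback.lift_fst _ _ _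
    have h2 : k ≫ pullback.snd q q = g₂ ≫ (q ⁻¹ᵁ U).ι := pullback.lift_snd _ _ _
    have hk : ⊤ ≤ k ⁻¹ᵁ (pullback.fst q q ⁻¹ᵁ (q ⁻¹ᵁ U)) := by
      rw [← Scheme.Hom.comp_preimage, h1]; exact le₁
    have := congrArg (k.appLE _ ⊤ hk) ha
    simp only [Scheme.Hom.app_eq_appLE, ← CommRingCat.comp_apply, Scheme.Hom.map_appLE,
      Scheme.Hom.appLE_comp_appLE, Category.assoc] at this
    simp only [h1, h2] at this
    exact this
  let D := EffectiveEpi.desc (q ∣_ U) A hA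
  have hD : (q ∣_ U) ≫ D = A := EffectiveEpi.fac _ _ hA
  refine ⟨U.topIso.hom (D.appTop tvar), ?_⟩
  have := congrArg (fun m : _ ⟶ A1.{u} => (q ⁻¹ᵁ U).topIso.hom (m.appTop tvar)) hD
  simp only [A, fnHom_tvar, Scheme.Hom.comp_appTop, CommRingCat.comp_apply] at this
  rw [← CommRingCat.comp_apply (q ⁻¹ᵁ U).topIso.inv, Iso.inv_hom_id] at this
  refine Eq.trans ?_ this
  generalize D.appTop tvar = c
  have h2 : (q ∣_ U).appTop ≫ (q ⁻¹ᵁ U).topIso.hom = U.topIso.hom ≫ q.app U := by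
    rw [← Iso.inv_comp_eq, ← Category.assoc, topIso_inv_restrict, Category.assoc, Iso.inv_hom_id, Category.comp_id]
  exact (ConcreteCategory.congr_hom h2 c).symm

end Groth.Agent.Lib.PicFppf.Fns
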