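import Groth.Agent.Lib.PicFppf.Local
import Groth.Agent.Lib.PicProj.Main
import Groth.Prelude.Def_Pic
import Mathlib.AlgebraicGeometry.Morphisms.Smooth

/-!
# Invertible modules trivial fppf-locally on the base are trivial Zariski-locally on the base
-/

set_option autoImplicit false
set_option maxHeartbeats 120000
set_option linter.style.haveILetI false
universe u

open CategoryTheory CategoryTheory.Limits AlgebraicGeometry Opposite TopologicalSpace
open ZarCoh.FlatBC.PullbackSections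
open Groth.Agent.Lib Groth.Agent.Lib.TensorMod Groth.Agent.Lib.TensorMod.Dual Groth.Agent.Lib.TensorMod.Gen
open Groth.Agent.Lib.TensorMod.Pullback Groth.Agent.Lib.Ample Groth.Agent.Lib.Ample.GenLocus
open Groth.Agent.Lib.DescAlg.PbSec

noncomputable section

namespace Groth.Agent.Lib.PicFppf.Gens

open Local

theorem exists_gen_affine {A B : Type u} [CommRing A] [CommRing B] [Algebra A B] [Module.FaithfullyFlat A B]
    {X : Scheme.{u}} {f : X ⟶ Spec (CommRingCat.of A)} (D : BC (A := A) f) {L : X.Modules}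
    (hL : PicF.IsInvertible L)
    (hb : ∀ (C : Type u) [CommRing C] [Algebra A C], Function.Bijective (iot D C))
    {e' : Γ((pb (D.pr B)).obj L, ⊤)} (he' : IsGen ((pb (D.pr B)).obj L) ⊤ e')
    (p : PrimeSpectrum A) :
    ∃ (W : (Spec (CommRingCat.of A)).Opens) (e : Γ(L, f ⁻¹ᵁ W)), p ∈ W ∧ IsGen L (f ⁻¹ᵁ W) e := by
  obtain ⟨q, hq⟩ := PrimeSpectrum.comap_surjective_of_faithfullyFlat (A := A) (B := B) p
  obtain ⟨m, hm, hm'⟩ := exists_descended D hb he' hL
  obtain ⟨b, hmb, hbq⟩ := hm q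
  obtain ⟨hst, t, ht⟩ := hm' b hmb
  haveI : Flat (str (A := A) B) := by
    rw [HasRingHomProperty.Spec_iff (P := @Flat)]
    exact (RingHom.flat_algebraMap_iff).2 inferInstance
  haveI : Surjective (str (A := A) B) := ⟨PrimeSpectrum.comap_surjective_of_faithfullyFlat⟩
  let Z : Set (Spec (CommRingCat.of A)) :=
    (str (A := A) B).base '' (PrimeSpectrum.basicOpen b : Set (PrimeSpectrum B))
  have hpre : (str (A := A) B).base ⁻¹' Z = (PrimeSpectrum.basicOpen b : Set (PrimeSpectrum B)) := by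
    refine subset_antisymm ?_ (Set.subset_preimage_image _ _)
    rintro r ⟨r', hr', h⟩
    exact hst r' r h hr'
  have hZ : IsOpen Z := by
    rw [← (Flat.isQuotientMap_of_surjective (str (A := A) B)).isOpen_preimage, hpre]
    exact (PrimeSpectrum.basicOpen b).2
  let W : (Spec (CommRingCat.of A)).Opens := ⟨Z, hZ⟩
  obtain ⟨s, hs⟩ := exists_hom_of_sec t
  haveI : Surjective (D.pr B) := MorphismProperty.of_isPullback (P := @Surjective) (D.isPb B).flip inferInstance
  have hloc : ∀ x ∈ f ⁻¹ᵁ W, x ∈ CohB1.genLocus L s := by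
    intro x hx
    obtain ⟨z, rfl⟩ := (D.pr B).surjective x
    let s' := (PicLoc.pullbackStructureIso (D.pr B)).inv ≫ (pb (D.pr B)).map s
    have hs' : sv s' ⊤ = iot D B b • e' := by
      refine (sv_pullback (D.pr B) s ⊤).trans ?_
      rw [hs]
      refine Eq.trans ?_ ht
      exact (rs_self _ _ _).symm
    have h1 := genLocus_inf_eq he' s' hs'
    have hzb : z ∈ (D.P B).basicOpen (iot D B b) := by
      have : (D.sn B).base z ∈ PrimeSpectrum.basicOpen b := by
        have h2 : (str (A := A) B).base ((D.sn B).base z) ∈ Z := by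
          have h3 := congrArg (fun g : D.P B ⟶ _ => g.base z) (D.isPb B).w
          simp only [Scheme.Hom.comp_apply] at h3
          rw [← h3]
          exact hx
        rw [← Set.mem_preimage, hpre] at h2
        exact h2
      have h4 : (D.P B).basicOpen (iot D B b) = (D.sn B) ⁻¹ᵁ PrimeSpectrum.basicOpen b := by
        rw [show iot D B b = (D.sn B).appTop ((Scheme.ΓSpecIso (CommRingCat.of B)).inv b) from rfl,
          ← Scheme.preimage_basicOpen_top, ← basicOpen_eq_of_affine (R := CommRingCat.of B)]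
      rw [h4]
      exact this
    rw [← h1] at hzb
    have h5 : z ∈ CohB1.genLocus ((pb (D.pr B)).obj L) s' := hzb.1
    rw [show s' = (PicLoc.pullbackStructureIso (D.pr B)).symm.hom ≫ (pb (D.pr B)).map s from rfl,
      genLocus_pullback (D.pr B) hL] at h5
    exact h5
  refine ⟨W, rs L le_top t, ⟨q, hbq, hq⟩, GenLocal.isGen_of_forall_exists fun x hx => ?_⟩
  obtain ⟨U, hxU, hU⟩ := (mem_genLocus_iff s).1 (hloc x hx)
  refine ⟨f ⁻¹ᵁ W ⊓ U, inf_le_left, ⟨hx, hxU⟩, ?_⟩
  have h6 := hU.res (inf_le_right : f ⁻¹ᵁ W ⊓ U ≤ U)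
  rw [rs_sv, ← rs_sv s (le_top : f ⁻¹ᵁ W ⊓ U ≤ ⊤), hs] at h6
  rwa [rs_rs]

/-- The affine pieces of the base change. -/
def bcOf {X S : Scheme.{u}} (f : X ⟶ S) {A : Type u} [CommRing A] (g : Spec (CommRingCat.of A) ⟶ S) :
    BC (A := A) (pullback.snd f g) :=
  BC.std (pullback.snd f g)

theorem bijective_iot_bcOf {X S : Scheme.{u}} (f : X ⟶ S)
    (ha : ∀ (T : Over S) (U : T.left.Opens), IsIso ((PicF.XTproj f T).app U))
    {A : Type u} [CommRing A] (g : Spec (CommRingCat.of A) ⟶ S) (C : Type u) [CommRing C] [Algebra A C] :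
    Function.Bijective (iot (bcOf f g) C) := by
  haveI h1 : IsIso (pullback.snd f (str (A := A) C ≫ g)).appTop := ha (Over.mk (str (A := A) C ≫ g)) ⊤
  have h2 : pullback.snd (pullback.snd f g) (str (A := A) C) =
      (pullbackLeftPullbackSndIso f g (str (A := A) C)).hom ≫ pullback.snd f (str (A := A) C ≫ g) :=
    (pullbackLeftPullbackSndIso_hom_snd f g _).symm
  haveI : IsIso ((bcOf f g).sn C).appTop := by
    show IsIso (pullback.snd (pullback.snd f g) (str (A := A) C)).appTop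
    haveI : IsIso (pullbackLeftPullbackSndIso f g (str (A := A) C)).hom.appTop :=
      inferInstanceAs (IsIso ((pullbackLeftPullbackSndIso f g (str (A := A) C)).hom.app ⊤))
    rw [h2, Scheme.Hom.comp_appTop]
    infer_instance
  exact ConcreteCategory.bijective_of_isIso
    ((Scheme.ΓSpecIso (CommRingCat.of C)).inv ≫ ((bcOf f g).sn C).appTop)

/-- An invertible module which becomes trivial over an fppf cover of the base is trivial locally on the base. -/
theorem exists_gens {X S : Scheme.{u}} (f : X ⟶ S)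
    (ha : ∀ (T : Over S) (U : T.left.Opens), IsIso ((PicF.XTproj f T).app U))
    {L : X.Modules} (hL : PicF.IsInvertible L)
    {S' : Scheme.{u}} (h : S' ⟶ S) [Flat h] [LocallyOfFinitePresentation h]
    (e₀ : (pb (pullback.fst f h)).obj L ≅ Coh.structureModule (pullback f h)) (y' : S') :
    ∃ (W : S.Opens) (e : Γ(L, f ⁻¹ᵁ W)), h y' ∈ W ∧ IsGen L (f ⁻¹ᵁ W) e := by
  obtain ⟨V₀, hV₀, hyV₀, -⟩ := exists_isAffineOpen_mem_and_subset (X := S) (x := h y') (U := ⊤) trivial
  obtain ⟨V', hV', hyV', hle⟩ := exists_isAffineOpen_mem_and_subset (X := S') (x := y') (U := h ⁻¹ᵁ V₀) hyV₀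
  obtain ⟨r, hr, hyr⟩ := hV₀.exists_basicOpen_le (V := ⟨h '' V', h.isOpenMap _ V'.2⟩)
    ⟨h y', y', hyV', rfl⟩ hyV₀
  let V : S.Opens := S.basicOpen r
  have hVa : IsAffineOpen V := hV₀.basicOpen r
  let V₁' : S'.Opens := V' ⊓ h ⁻¹ᵁ V
  have hV₁' : IsAffineOpen V₁' := by
    have : V₁' = S'.basicOpen (h.appLE V₀ V' hle r) := by
      rw [Scheme.basicOpen_appLE]
    rw [this]
    exact hV'.basicOpen _
  let A : Type u := Γ(S, V)
  let B : Type u := Γ(S', V₁')
  letI : Algebra A B := (h.appLE V V₁' inf_le_right).hom.toAlgebra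
  let g : Spec (CommRingCat.of A) ⟶ S := hVa.fromSpec
  let gB : Spec (CommRingCat.of B) ⟶ S' := hV₁'.fromSpec
  have hsq : str (A := A) B ≫ g = gB ≫ h :=
    IsAffineOpen.SpecMap_appLE_fromSpec h hVa hV₁' inf_le_right
  haveI : Flat (str (A := A) B) := by
    rw [HasRingHomProperty.Spec_iff (P := @Flat)]
    exact h.flat_appLE hVa hV₁' inf_le_right
  haveI : Surjective (str (A := A) B) := ⟨fun p => by
    have hp : g p ∈ V := by
      show g p ∈ (V : Set S)
      rw [← hVa.range_fromSpec]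
      exact Set.mem_range_self p
    obtain ⟨z, hz, hzp⟩ := hr hp
    obtain ⟨q, hq⟩ : z ∈ Set.range gB := by
      rw [hV₁'.range_fromSpec]
      exact ⟨hz, show h z ∈ V from hzp ▸ hp⟩
    refine ⟨q, g.isOpenEmbedding.injective ?_⟩
    have := congrArg (fun u : Spec (CommRingCat.of B) ⟶ S => u.base q) hsq
    simp only [Scheme.Hom.comp_apply] at this
    rw [this, hq]
    exact hzp⟩
  haveI : Module.Flat A B := by
    rw [← RingHom.flat_algebraMap_iff]
    exact h.flat_appLE hVa hV₁' inf_le_right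
  haveI : Module.FaithfullyFlat A B :=
    Module.FaithfullyFlat.of_comap_surjective (str (A := A) B).surjective
  let j : pullback f g ⟶ X := pullback.fst f g
  let L₁ := (pb j).obj L
  let D := bcOf f g
  let k : D.P B ⟶ pullback f h := pullback.lift (D.pr B ≫ j) (D.sn B ≫ gB) (by
    rw [Category.assoc, Category.assoc, ← hsq, pullback.condition, reassoc_of% (D.isPb B).w])
  have hk : k ≫ pullback.fst f h = D.pr B ≫ j := pullback.lift_fst _ _ _
  let i : (pb (D.pr B)).obj L₁ ≅ Coh.structureModule (D.P B) :=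
    ((Scheme.Modules.pullbackComp (D.pr B) j).app L) ≪≫ (Scheme.Modules.pullbackCongr hk.symm).app L ≪≫
      ((Scheme.Modules.pullbackComp k (pullback.fst f h)).app L).symm ≪≫ (pb k).mapIso e₀ ≪≫
      PicLoc.pullbackStructureIso k
  obtain ⟨e', he'⟩ := H52.PushInv.exists_gen_of_iso_unit i
  obtain ⟨p, hp⟩ : h y' ∈ Set.range g := by
    rw [hVa.range_fromSpec]; exact hyr
  obtain ⟨W, e, hpW, he⟩ := exists_gen_affine D (PicLoc.isInvertible_pullback j hL)
    (fun C _ _ => bijective_iot_bcOf f ha g C) he' p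
  obtain ⟨i₁⟩ := exists_iso_of_gen he
  let W₁ := pullback.snd f g ⁻¹ᵁ W
  let i₂ : L.restrict (W₁.ι ≫ j) ≅ Coh.structureModule (W₁ : Scheme.{u}) :=
    (Scheme.Modules.restrictFunctorIsoPullback (W₁.ι ≫ j)).app L ≪≫
      ((Scheme.Modules.pullbackComp W₁.ι j).app L).symm ≪≫
      ((Scheme.Modules.restrictFunctorIsoPullback W₁.ι).app L₁).symm ≪≫ i₁
  obtain ⟨e₂, he₂⟩ := PicProj.Main.exists_gen_opensRange (W₁.ι ≫ j) i₂
  have hle' : f ⁻¹ᵁ (g ''ᵁ W) ≤ (W₁.ι ≫ j).opensRange := by
    rintro x ⟨r, hr', hrx⟩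
    obtain ⟨z, hz₁, hz₂⟩ := Scheme.Pullback.exists_preimage_pullback (f := f) (g := g) x r hrx.symm
    refine ⟨⟨z, show pullback.snd f g z ∈ W by rw [hz₂]; exact hr'⟩, ?_⟩
    rw [Scheme.Hom.comp_apply]
    exact hz₁
  exact ⟨g ''ᵁ W, _, ⟨p, hpW, hp⟩, he₂.res hle'⟩

end Groth.Agent.Lib.PicFppf.Gens
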