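import Groth.Agent.Lib.PicFppf.Rigid
import Groth.Agent.Lib.DescAlg.LocFreeDescent
import Groth.Agent.Lib.TensorMod.TensorInv
import Groth.Agent.Lib.QCoh.Pullback
import Groth.Agent.Lib.PicProj.Main
import Groth.Agent.H52.PushInv

/-!
# Rigidified invertible classes glue along fppf families
-/

set_option autoImplicit false
set_option maxHeartbeats 120000
set_option linter.style.haveILetI false
universe u

open CategoryTheory CategoryTheory.Limits AlgebraicGeometry Opposite TopologicalSpace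
open Groth.Agent.Lib Groth.Agent.Lib.TensorMod Groth.Agent.Lib.TensorMod.Dual Groth.Agent.Lib.TensorMod.Gen
open Groth.Agent.Lib.TensorMod.Pullback
open Groth.Agent.Lib.PicFppf.Rigid

noncomputable section

namespace Groth.Agent.Lib.PicFppf.Glue

/-- Invertibility descends along flat surjective quasi-compact morphisms. -/
theorem isInvertible_of_pullback {X' X : Scheme.{u}} (g : X' ⟶ X) [QuasiCompact g] [Flat g] [Surjective g]
    (M : X.Modules) [M.IsQuasicoherent] (h : PicF.IsInvertible ((pb g).obj M)) : PicF.IsInvertible M := by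
  have h1 : FlatMod.IsFinLocFreeOfRank 1 ((Scheme.Modules.pullback g).obj M) :=
    TensorMod.LocFree.of_isInvertible h
  have h2 : FlatMod.IsFinLocFree M :=
    DescAlg.LocFreeDescent.isFinLocFree_of_pullback g M (TensorMod.LocFree.of_rank h1)
  refine TensorMod.LocFree.isInvertible_of_rank_one fun x => ?_
  obtain ⟨U, n, hxU, ⟨j⟩⟩ := h2 x
  obtain ⟨z, hz⟩ := g.surjective x
  obtain ⟨j'⟩ := TensorMod.LocFree.pullback_iso_of_restrict_iso g j
  obtain ⟨V, hzV, ⟨l⟩⟩ := h1 z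
  have hzU : z ∈ g ⁻¹ᵁ U := by
    show g z ∈ U
    rw [hz]; exact hxU
  obtain ⟨j''⟩ := TensorMod.LocFree.exists_restrict_iso_freeMod (inf_le_left : g ⁻¹ᵁ U ⊓ V ≤ g ⁻¹ᵁ U) j'
  obtain ⟨l'⟩ := TensorMod.LocFree.exists_restrict_iso_freeMod (inf_le_right : g ⁻¹ᵁ U ⊓ V ≤ V) l
  obtain rfl : n = 1 := TensorMod.TensorInv.freeMod_rank_eq (⟨z, hzU, hzV⟩ : ↥(g ⁻¹ᵁ U ⊓ V))
    (j''.symm ≪≫ l')
  exact ⟨U, hxU, ⟨j⟩⟩

/-- Invertibility may be tested on an fppf family. -/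
theorem isInvertible_of_family {Y : Scheme.{u}} (M : Y.Modules) [M.IsQuasicoherent]
    (h : ∀ y : Y, ∃ (P : Scheme.{u}) (p : P ⟶ Y), Flat p ∧ LocallyOfFinitePresentation p ∧ y ∈ Set.range p ∧
      PicF.IsInvertible ((pb p).obj M)) : PicF.IsInvertible M := by
  refine isInvertible_iff.2 fun y => ?_
  obtain ⟨P, p, hpf, hpp, ⟨z, rfl⟩, hinv⟩ := h y
  haveI := hpf; haveI := hpp
  obtain ⟨V₀, hV₀, hzV₀, -⟩ := exists_isAffineOpen_mem_and_subset (X := Y) (x := p z) (U := ⊤) trivial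
  obtain ⟨V', hV', hzV', hle⟩ := exists_isAffineOpen_mem_and_subset (X := P) (x := z) (U := p ⁻¹ᵁ V₀) hzV₀
  obtain ⟨r, hr, hzr⟩ := hV₀.exists_basicOpen_le (V := ⟨p '' V', p.isOpenMap _ V'.2⟩)
    ⟨p z, z, hzV', rfl⟩ hzV₀
  let V : Y.Opens := Y.basicOpen r
  let V₁' : P.Opens := V' ⊓ p ⁻¹ᵁ V
  have hVa : IsAffineOpen V := hV₀.basicOpen r
  have hV₁' : IsAffineOpen V₁' := by
    rw [show V₁' = P.basicOpen (p.appLE V₀ V' hle r) by rw [Scheme.basicOpen_appLE]]
    exact hV'.basicOpen _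
  haveI : IsAffine (V : Scheme.{u}) := hVa
  haveI : IsAffine (V₁' : Scheme.{u}) := hV₁'
  let g : (V₁' : Scheme.{u}) ⟶ (V : Scheme.{u}) := p.resLE V V₁' inf_le_right
  have hg : g ≫ V.ι = V₁'.ι ≫ p := Scheme.Hom.resLE_comp_ι _ _
  haveI : Flat g := by
    haveI : Flat (g ≫ V.ι) := by rw [hg]; infer_instance
    exact MorphismProperty.of_postcomp (W := @Flat) (W' := @IsOpenImmersion) g V.ι inferInstance ‹Flat (g ≫ V.ι)›
  haveI : Surjective g := ⟨fun w => by
    obtain ⟨v, hv, hvw⟩ := hr w.2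
    refine ⟨⟨v, hv, show p v ∈ V by rw [hvw]; exact w.2⟩, Subtype.ext ?_⟩
    show V.ι (g _) = V.ι w
    rw [← Scheme.Hom.comp_apply, hg, Scheme.Hom.comp_apply]
    exact hvw⟩
  haveI : ((pb V.ι).obj M).IsQuasicoherent := QCoh.Pullback.isQCoh_pullback V.ι M
  let i : (pb g).obj ((pb V.ι).obj M) ≅ (pb V₁'.ι).obj ((pb p).obj M) :=
    (Scheme.Modules.pullbackComp g V.ι).app M ≪≫ (Scheme.Modules.pullbackCongr hg).app M ≪≫
      ((Scheme.Modules.pullbackComp V₁'.ι p).app M).symm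
  have hF := isInvertible_of_pullback g ((pb V.ι).obj M)
    (TensorMod.Invertible.isInvertible_of_iso i.symm (PicLoc.isInvertible_pullback V₁'.ι hinv))
  obtain ⟨U, hU, ⟨e⟩⟩ := hF ⟨p z, hzr⟩
  let j : (U : Scheme.{u}) ⟶ Y := U.ι ≫ V.ι
  let e' : M.restrict j ≅ Coh.structureModule (U : Scheme.{u}) :=
    (Scheme.Modules.restrictFunctorIsoPullback j).app M ≪≫
      ((Scheme.Modules.pullbackComp U.ι V.ι).app M).symm ≪≫
      ((Scheme.Modules.restrictFunctorIsoPullback U.ι).app _).symm ≪≫ e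
  obtain ⟨ε, hε⟩ := PicProj.Main.exists_gen_opensRange j e'
  exact ⟨j.opensRange, ε, ⟨⟨⟨p z, hzr⟩, hU⟩, rfl⟩, hε⟩

variable {Y T : Scheme.{u}} {q : Y ⟶ T} (s : T ⟶ Y) (hs : s ≫ q = 𝟙 T)
  (hO : ∀ J : Slice q, Function.Bijective J.sn.appTop)
  {ι : Type u} (K : ι → Slice q) (L : ∀ i, (K i).P.Modules)

include hO in
/-- Gluing of rigidifiable modules. -/
theorem exists_glue (hflat : ∀ i, Flat (K i).v) (hlfp : ∀ i, LocallyOfFinitePresentation (K i).v)
    (hsurj : ∀ t : T, ∃ i, t ∈ Set.range (K i).v)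
    (hL : ∀ i, PicF.IsInvertible (L i))
    (hrig : ∀ i, Nonempty ((pb (Slice.σ s hs (K i))).obj (L i) ≅ Coh.structureModule (K i).V))
    (hiso : ∀ i j, Nonempty ((pb (Slice.map (p₁ i j) (p₁_v (K := K) i j))).obj (L i) ≅
      (pb (Slice.map (p₂ i j) (p₂_v (K := K) i j))).obj (L j))) :
    ∃ M : Y.Modules, PicF.IsInvertible M ∧ ∀ i, Nonempty ((pb (K i).pr).obj M ≅ L i) := by
  choose ε hε using fun i => Groth.Agent.H52.PushInv.exists_gen_of_iso_unit (hrig i).some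
  let D := dd s hs ε hO hL hε hiso
  haveI : ∀ i, Flat (K i).pr := fun i =>
    MorphismProperty.of_isPullback (P := @Flat) (K i).sq.flip (hflat i)
  haveI : ∀ i, LocallyOfFinitePresentation (K i).pr := fun i =>
    MorphismProperty.of_isPullback (P := @LocallyOfFinitePresentation) (K i).sq.flip (hlfp i)
  have hpt : ∀ y : Y, ∃ i, y ∈ Set.range (K i).pr := fun y => by
    obtain ⟨i, v, hv⟩ := hsurj (q y)
    obtain ⟨z, hz, -⟩ := Scheme.Pullback.exists_preimage_pullback (f := q) (g := (K i).v) y v hv.symm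
    refine ⟨i, (K i).sq.isoPullback.inv z, ?_⟩
    rw [← Scheme.Hom.comp_apply, IsPullback.isoPullback_inv_fst]
    exact hz
  have hcov : Presieve.ofArrows (fun i => (K i).P) (fun i => (K i).pr) ∈ Scheme.fpqcPrecoverage Y :=
    Scheme.fppfPrecoverage_le_fpqcPrecoverage _
      ((AlgebraicGeometry.Scheme.ofArrows_mem_precoverage_iff _).2 ⟨hpt, fun i => ⟨inferInstance, inferInstance⟩⟩)
  haveI := D.isQuasicoherent_glue hcov
  have hi : ∀ i, Nonempty ((pb (K i).pr).obj (D.glue hcov) ≅ L i) := fun i => by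
    exact ⟨@asIso _ _ _ _ (D.cmp hcov i) (D.isIso_cmp hcov i)⟩
  refine ⟨D.glue hcov, isInvertible_of_family _ fun y => ?_, hi⟩
  obtain ⟨i, hy⟩ := hpt y
  exact ⟨_, (K i).pr, inferInstance, inferInstance, hy,
    TensorMod.Invertible.isInvertible_of_iso (hi i).some.symm (hL i)⟩

end Groth.Agent.Lib.PicFppf.Glue
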