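import Groth.Agent.H2.Rigid.SmoothDense
import Groth.Agent.H75.BaseChange.Nhd
import Groth.Agent.Lib.EtaleSection.Sections

/-!
# Étale local sections of flat families with geometrically reduced fibres
-/

set_option autoImplicit false
set_option linter.style.haveILetI false
universe u

open CategoryTheory CategoryTheory.Limits AlgebraicGeometry

namespace Groth.Agent.Lib.PicFppf.LocSection

/-- A flat finitely presented surjection with geometrically reduced fibres has sections étale locally
on the base. -/
theorem exists_etale_section {X S : Scheme.{u}} (f : X ⟶ S) [Flat f] [LocallyOfFinitePresentation f]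
    [Surjective f] [GeometricallyReduced f] :
    ∃ (S' : Scheme.{u}) (g : S' ⟶ S) (h : S' ⟶ X), Etale g ∧ Surjective g ∧ h ≫ f = g := by
  let U := f.smoothLocus
  haveI : Smooth (U.ι ≫ f) := by
    refine Scheme.Hom.smoothLocus_eq_top_iff.1 ?_
    rw [← Scheme.Hom.preimage_smoothLocus_eq]
    exact top_le_iff.1 fun x _ => x.2
  haveI : Surjective (U.ι ≫ f) := ⟨fun s => by
    let F := pullback f (S.fromSpecResidueField s)
    letI : F.Over (Spec (CommRingCat.of (S.residueField s))) := ⟨pullback.snd f _⟩
    haveI : LocallyOfFinitePresentation (F ↘ Spec (CommRingCat.of (S.residueField s))) :=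
      inferInstanceAs (LocallyOfFinitePresentation (pullback.snd f _))
    haveI : GeometricallyReduced (F ↘ Spec (CommRingCat.of (S.residueField s))) :=
      inferInstanceAs (GeometricallyReduced (pullback.snd f _))
    haveI : IsReduced F := inferInstanceAs (IsReduced (f.fiber s))
    obtain ⟨x, hx⟩ := f.surjective s
    obtain ⟨z, hz, -⟩ := Scheme.Pullback.exists_preimage_pullback x
      (IsLocalRing.closedPoint (S.residueField s)) (f := f) (g := S.fromSpecResidueField s)
      (hx.trans (S.fromSpecResidueField_apply s _).symm)
    obtain ⟨w, -, hw⟩ := (Groth.Agent.H2.Rigid.SmoothDense.dense_smoothLocus (S.residueField s) F).inter_open_nonempty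
      Set.univ isOpen_univ ⟨z, trivial⟩
    have hw' : pullback.fst f (S.fromSpecResidueField s) w ∈ U :=
      (Groth.Agent.H75.BaseChange.mem_smoothLocus_snd_iff f (S.fromSpecResidueField s) w
        (Or.inl (Flat.stalkMap f _))).1 hw
    refine ⟨⟨_, hw'⟩, ?_⟩
    show f (pullback.fst f (S.fromSpecResidueField s) w) = s
    rw [← Scheme.Hom.comp_apply, pullback.condition, Scheme.Hom.comp_apply]
    exact S.fromSpecResidueField_apply s _⟩
  obtain ⟨S', g, h, hg, hgs, hh⟩ :=
    Groth.Agent.Lib.EtaleSection.Sections.exists_etale_surjective_section (U.ι ≫ f)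
  exact ⟨S', g, h ≫ U.ι, hg, hgs, by rw [Category.assoc, hh]⟩

end Groth.Agent.Lib.PicFppf.LocSection
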