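import Groth.Agent.Lib.PicFppf.Fns
import Groth.Agent.H69.LFDesc.Main
import Groth.Agent.Lib.Ample.GenLocus
import Groth.Agent.Lib.TensorMod.GenLocal
import Groth.Agent.Lib.TensorMod.LocFree
import Groth.Agent.Lib.EtH1Gm.RingDesc
import Groth.Agent.H52.PushInv
import Mathlib.RingTheory.Flat.FaithfullyFlat.Algebra
import Mathlib.AlgebraicGeometry.Morphisms.Flat

/-!
# Trivialisations of invertible modules descend along faithfully flat affine base changes
when `O = f_* O` universally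
-/

set_option autoImplicit false
set_option linter.style.haveILetI false
universe u

open CategoryTheory CategoryTheory.Limits AlgebraicGeometry Opposite TopologicalSpace TensorProduct
open ZarCoh.FlatBC.PullbackSections
open Groth.Agent.Lib Groth.Agent.Lib.TensorMod Groth.Agent.Lib.TensorMod.Dual Groth.Agent.Lib.TensorMod.Gen
open Groth.Agent.Lib.TensorMod.Pullback Groth.Agent.Lib.Ample Groth.Agent.Lib.Ample.GenLocus
open Groth.Agent.Lib.DescAlg.PbSec Groth.Agent.Lib.EtH1Gm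

noncomputable section

namespace Groth.Agent.Lib.PicFppf.Local

variable {A B : Type u} [CommRing A] [CommRing B] [Algebra A B]
variable {X : Scheme.{u}} (f : X ⟶ Spec (CommRingCat.of A))

theorem topLe {Z Z' : Scheme.{u}} (g : Z' ⟶ Z) : (⊤ : Z'.Opens) ≤ g ⁻¹ᵁ (⊤ : Z.Opens) :=
  fun _ _ => trivial

/-- The structure map of an algebra. -/
abbrev str (C : Type u) [CommRing C] [Algebra A C] : Spec (CommRingCat.of C) ⟶ Spec (CommRingCat.of A) :=
  Spec.map (CommRingCat.ofHom (algebraMap A C))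

/-- A choice of base changes of `X` to all algebras. -/
structure BC where
  /-- The base change. -/
  P : ∀ (C : Type u) [CommRing C] [Algebra A C], Scheme.{u}
  /-- The projection to `X`. -/
  pr : ∀ (C : Type u) [CommRing C] [Algebra A C], P C ⟶ X
  /-- The projection to the algebra. -/
  sn : ∀ (C : Type u) [CommRing C] [Algebra A C], P C ⟶ Spec (CommRingCat.of C)
  isPb : ∀ (C : Type u) [CommRing C] [Algebra A C], IsPullback (pr C) (sn C) f (str (A := A) C)

/-- The standard choice. -/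
def BC.std : BC (A := A) f where
  P C := pullback f (str (A := A) C)
  pr C := pullback.fst f (str (A := A) C)
  sn C := pullback.snd f (str (A := A) C)
  isPb C := IsPullback.of_hasPullback f (str (A := A) C)

variable {f} (D : BC (A := A) f)
variable {C C' C'' : Type u} [CommRing C] [Algebra A C] [CommRing C'] [Algebra A C'] [CommRing C''] [Algebra A C'']

theorem str_comp (φ : C →ₐ[A] C') :
    Spec.map (CommRingCat.ofHom φ.toRingHom) ≫ str (A := A) C = str C' := by
  rw [← Spec.map_comp, ← CommRingCat.ofHom_comp]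
  congr 2
  exact φ.comp_algebraMap

/-- Functoriality. -/
def pm (φ : C →ₐ[A] C') : D.P C' ⟶ D.P C :=
  (D.isPb C).lift (D.pr C') (D.sn C' ≫ Spec.map (CommRingCat.ofHom φ.toRingHom))
    (by rw [Category.assoc, str_comp]; exact (D.isPb C').w)

theorem pm_fst (φ : C →ₐ[A] C') : pm D φ ≫ D.pr C = D.pr C' :=
  (D.isPb C).lift_fst _ _ _

theorem pm_snd (φ : C →ₐ[A] C') :
    pm D φ ≫ D.sn C = D.sn C' ≫ Spec.map (CommRingCat.ofHom φ.toRingHom) :=
  (D.isPb C).lift_snd _ _ _

theorem pm_comp (φ : C →ₐ[A] C') (ψ : C' →ₐ[A] C'') : pm D ψ ≫ pm D φ = pm D (ψ.comp φ) := by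
  apply (D.isPb _).hom_ext
  · rw [Category.assoc, pm_fst, pm_fst, pm_fst]
  · rw [Category.assoc, pm_snd, reassoc_of% (pm_snd D ψ), pm_snd, ← Spec.map_comp, ← CommRingCat.ofHom_comp]
    rfl

theorem pm_id : pm D (AlgHom.id A C) = 𝟙 _ := by
  apply (D.isPb _).hom_ext
  · rw [pm_fst, Category.id_comp]
  · rw [pm_snd, Category.id_comp]
    erw [CommRingCat.ofHom_id, Spec.map_id, Category.comp_id]

/-- Constants. -/
def iot (C : Type u) [CommRing C] [Algebra A C] : C →+* Γ(D.P C, ⊤) :=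
  ((Scheme.ΓSpecIso (CommRingCat.of C)).inv ≫ (D.sn C).appTop).hom

theorem iot_natural (φ : C →ₐ[A] C') (c : C) : (pm D φ).appTop (iot D C c) = iot D C' (φ c) := by
  have h := congrArg (fun m : D.P C' ⟶ _ => m.appTop ((Scheme.ΓSpecIso (CommRingCat.of C)).inv c)) (pm_snd D φ)
  simp only [Scheme.Hom.comp_appTop, CommRingCat.comp_apply] at h
  refine Eq.trans h ?_
  exact congrArg (D.sn C').appTop
    (ConcreteCategory.congr_hom (Scheme.ΓSpecIso_inv_naturality (CommRingCat.ofHom φ.toRingHom)) c).symm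

variable (L : X.Modules) (e' : Γ((pb (D.pr B)).obj L, ⊤))

/-- The translates of the trivialising section. -/
def E (a : B →ₐ[A] C) : Γ((pb (D.pr C)).obj L, ⊤) :=
  R (pm D a) (pm_fst D a) L (W := ⊤) (W' := ⊤) (topLe _) e'

theorem R_E (ψ : C →ₐ[A] C') (a : B →ₐ[A] C) :
    R (pm D ψ) (pm_fst D ψ) L (W := ⊤) (W' := ⊤) (topLe _) (E D L e' a) = E D L e' (ψ.comp a) :=
  R_comp (pm D a) (pm D ψ) (pm D (ψ.comp a)) (pm_fst D a) (pm_fst D ψ) (pm_comp D a ψ) L (topLe _) (topLe _) e'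

theorem R_iot_smul (ψ : C →ₐ[A] C') (c : C) (x : Γ((pb (D.pr C)).obj L, ⊤)) :
    R (pm D ψ) (pm_fst D ψ) L (W := ⊤) (W' := ⊤) (topLe _) (iot D C c • x) =
      iot D C' (ψ c) • R (pm D ψ) (pm_fst D ψ) L (W := ⊤) (W' := ⊤) (topLe _) x := by
  rw [R_smul, ← iot_natural]
  congr 1
  rw [Scheme.Hom.appTop, Scheme.Hom.app_eq_appLE]
  rfl

variable {L e'}

theorem isGen_E (he' : IsGen _ ⊤ e') (a : B →ₐ[A] C) : IsGen _ ⊤ (E D L e' a) := by
  have h1 : IsGen ((pb (pm D a)).obj ((pb (D.pr B)).obj L)) ⊤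
      (pbRes (pm D a) ((pb (D.pr B)).obj L) (U := ⊤) (V := ⊤) (topLe _) e') :=
    (isGen_unitSec (pm D a) he').res _
  rw [E, R_eq]
  exact H52.PushInv.isGen_of_iso (tr (pm D a) (pm_fst D a) L) h1

variable (hb : ∀ (C : Type u) [CommRing C] [Algebra A C], Function.Bijective (iot D C))
  (he' : IsGen ((pb (D.pr B)).obj L) ⊤ e')

include hb he' in
theorem exists_ratio (a b : B →ₐ[A] C) : ∃ c : C, E D L e' a = iot D C c • E D L e' b := by
  obtain ⟨r, hr⟩ := exists_coord (isGen_E D he' b) (E D L e' a)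
  obtain ⟨c, rfl⟩ := (hb C).2 r
  exact ⟨c, hr⟩

include hb he' in
theorem ratio_unique {b : B →ₐ[A] C} {c c' : C}
    (h : iot D C c • E D L e' b = iot D C c' • E D L e' b) : c = c' := by
  refine (hb C).1 ((isGen_E D he' b ⊤ le_rfl).1 ?_)
  simpa only [rs_self] using h

include hb he' in
theorem exists_descended [Module.FaithfullyFlat A B] (hL : PicF.IsInvertible L) :
    ∃ (m : B → Prop), (∀ q : PrimeSpectrum B, ∃ b, m b ∧ b ∉ q.asIdeal) ∧
      ∀ b, m b → (∀ q q' : PrimeSpectrum B, PrimeSpectrum.comap (algebraMap A B) q =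
          PrimeSpectrum.comap (algebraMap A B) q' → b ∉ q.asIdeal → b ∉ q'.asIdeal) ∧
        ∃ t : Γ(L, ⊤), pbRes (D.pr B) L (U := ⊤) (V := ⊤) (topLe _) t = iot D B b • e' := by
  let i₁ : B →ₐ[A] B ⊗[A] B := Algebra.TensorProduct.includeLeft
  let i₂ : B →ₐ[A] B ⊗[A] B := Algebra.TensorProduct.includeRight
  obtain ⟨g, hg⟩ := exists_ratio D hb he' i₁ i₂
  obtain ⟨g', hg'⟩ := exists_ratio D hb he' i₂ i₁
  have hu : IsUnit g := IsUnit.of_mul_eq_one g' (ratio_unique D hb he' (b := i₂) (by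
    rw [map_one, one_smul, mul_comm, map_mul, mul_smul, ← hg]
    exact hg'.symm))
  have hd : ∀ a b : B →ₐ[A] (B ⊗[A] B) ⊗[A] B,
      E D L e' a = iot D _ (RingDesc.d a b g) • E D L e' b := by
    intro a b
    have h := congrArg (R (pm D (RingDesc.d a b)) (pm_fst D _) L (W := ⊤) (W' := ⊤) (topLe _)) hg
    rw [R_iot_smul, R_E, R_E] at h
    have e1 : (RingDesc.d a b).comp i₁ = a := AlgHom.ext fun x => by
      simp [i₁, RingDesc.d]
    have e2 : (RingDesc.d a b).comp i₂ = b := AlgHom.ext fun x => by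
      simp [i₂, RingDesc.d]
    rwa [e1, e2] at h
  have hc : RingDesc.d (RingDesc.j₁ A B) (RingDesc.j₂ A B) g * RingDesc.d (RingDesc.j₂ A B) (RingDesc.j₃ A B) g =
      RingDesc.d (RingDesc.j₁ A B) (RingDesc.j₃ A B) g := ratio_unique D hb he' (b := RingDesc.j₃ A B) (by
    rw [map_mul, mul_smul, ← hd, ← hd, ← hd])
  refine ⟨fun b => g * (b ⊗ₜ 1) = 1 ⊗ₜ b, fun q => RingDesc.exists_mem_ker_notMem g hu hc q.asIdeal,
    fun b hgb => ⟨fun q q' h hq => RingDesc.notMem_of_comap_eq hu hgb h hq, ?_⟩⟩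
  let π := D.pr B
  haveI : Flat (str (A := A) B) := by
    rw [HasRingHomProperty.Spec_iff (P := @Flat)]
    exact (RingHom.flat_algebraMap_iff).2 inferInstance
  haveI : Surjective (str (A := A) B) := ⟨PrimeSpectrum.comap_surjective_of_faithfullyFlat⟩
  haveI : Flat π := MorphismProperty.of_isPullback (P := @Flat) (D.isPb B).flip inferInstance
  haveI : Surjective π := MorphismProperty.of_isPullback (P := @Surjective) (D.isPb B).flip inferInstance
  haveI : QuasiCompact π := MorphismProperty.of_isPullback (P := @QuasiCompact) (D.isPb B).flip inferInstance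
  have hU : ∀ U : X.Opens, (pullback.fst π π) ⁻¹ᵁ (π ⁻¹ᵁ U) = (pullback.snd π π) ⁻¹ᵁ (π ⁻¹ᵁ U) := fun U => by
    rw [← Scheme.Hom.comp_preimage, pullback.condition, Scheme.Hom.comp_preimage]
  let a₀ : Γ((pb π).obj L, π ⁻¹ᵁ ⊤) := iot D B b • e'
  have key : R (pm D i₁) (pm_fst D i₁) L (W := ⊤) (W' := ⊤) (topLe _) a₀ =
      R (pm D i₂) (pm_fst D i₂) L (W := ⊤) (W' := ⊤) (topLe _) a₀ := by
    have e : ∀ a : B →ₐ[A] B ⊗[A] B, R (pm D a) (pm_fst D a) L (W := ⊤) (W' := ⊤) (topLe _) a₀ =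
        iot D _ (a b) • E D L e' a := fun a => R_iot_smul D L a b e'
    rw [e, e, hg, smul_smul, ← map_mul, mul_comm]
    exact congrArg (fun z => iot D _ z • E D L e' i₂) hgb
  let k₀ : pullback π π ⟶ Spec (CommRingCat.of (B ⊗[A] B)) :=
    pullback.lift (pullback.fst π π ≫ D.sn B) (pullback.snd π π ≫ D.sn B) (by
      rw [Category.assoc, Category.assoc]
      show pullback.fst π π ≫ D.sn B ≫ str (A := A) B = pullback.snd π π ≫ D.sn B ≫ str (A := A) B
      rw [← (D.isPb B).w]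
      exact pullback.condition_assoc f) ≫ (pullbackSpecIso A B B).hom
  have hk₀₁ : k₀ ≫ Spec.map (CommRingCat.ofHom i₁.toRingHom) = pullback.fst π π ≫ D.sn B := by
    rw [Category.assoc]
    exact (congrArg (pullback.lift _ _ _ ≫ ·) (pullbackSpecIso_hom_fst A B B)).trans (pullback.lift_fst _ _ _)
  have hk₀₂ : k₀ ≫ Spec.map (CommRingCat.ofHom i₂.toRingHom) = pullback.snd π π ≫ D.sn B := by
    rw [Category.assoc]
    exact (congrArg (pullback.lift _ _ _ ≫ ·) (pullbackSpecIso_hom_snd A B B)).trans (pullback.lift_snd _ _ _)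
  let k : pullback π π ⟶ D.P (B ⊗[A] B) :=
    (D.isPb (B ⊗[A] B)).lift (pullback.fst π π ≫ π) k₀ (by
      rw [← str_comp i₁, reassoc_of% hk₀₁, Category.assoc, (D.isPb B).w])
  have hk₁ : k ≫ pm D i₁ = pullback.fst π π := by
    apply (D.isPb B).hom_ext
    · rw [Category.assoc, pm_fst, IsPullback.lift_fst]
    · rw [Category.assoc, pm_snd, IsPullback.lift_snd_assoc, hk₀₁]
  have hk₂ : k ≫ pm D i₂ = pullback.snd π π := by
    apply (D.isPb B).hom_ext
    · rw [Category.assoc, pm_fst, IsPullback.lift_fst]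
      exact pullback.condition
    · rw [Category.assoc, pm_snd, IsPullback.lift_snd_assoc, hk₀₂]
  have hk : k ≫ D.pr (B ⊗[A] B) = pullback.fst π π ≫ π := IsPullback.lift_fst _ _ _ _
  have hco := congrArg (R k hk L (W := ⊤) (W' := pullback.fst π π ⁻¹ᵁ (π ⁻¹ᵁ ⊤)) (fun _ _ => trivial)) key
  have hco' := ((R_comp (pm D i₁) k (pullback.fst π π) (pm_fst D i₁) hk hk₁ L (W'' := pullback.fst π π ⁻¹ᵁ (π ⁻¹ᵁ ⊤))
      (topLe (pm D i₁)) (fun _ _ => trivial) a₀).symm.trans
    hco).trans (R_comp (pm D i₂) k (pullback.snd π π) (pm_fst D i₂) hk hk₂ L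
      (topLe (pm D i₂)) (fun _ _ => trivial) a₀)
  obtain ⟨t, ht⟩ := H69.LFDesc.mem_range_pbRes π (Fns.app_injective π)
    (TensorMod.LocFree.of_rank (TensorMod.LocFree.of_isInvertible hL)) hU
    (fun U a ha => Fns.mem_range_app π U a (hU U) ha) ⊤ a₀ hco'
  exact ⟨t, ht⟩

end Groth.Agent.Lib.PicFppf.Local
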