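import Groth.Agent.Lib.PicFppf.Scalar
import Groth.Agent.Lib.QCohDesc.ModPF
import Groth.Agent.Lib.TensorMod.QCohInv
import Mathlib.AlgebraicGeometry.Sites.Fpqc

/-!
# Rigidified invertible modules on pairwise isomorphic pullbacks form a descent datum
-/

set_option autoImplicit false
set_option linter.style.haveILetI false
set_option maxHeartbeats 120000
universe u

open CategoryTheory CategoryTheory.Limits AlgebraicGeometry Opposite TopologicalSpace
open ZarCoh.FlatBC.PullbackSections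
open Groth.Agent.Lib Groth.Agent.Lib.TensorMod Groth.Agent.Lib.TensorMod.Dual Groth.Agent.Lib.TensorMod.Gen
open Groth.Agent.Lib.TensorMod.Pullback Groth.Agent.Lib.Ample.GenLocus
open Groth.Agent.Lib.DescAlg.PbSec Groth.Agent.Lib.PicFppf.Scalar

noncomputable section

namespace Groth.Agent.Lib.PicFppf.Rigid

theorem app_comp {Z : Scheme.{u}} {A B C : Z.Modules} (φ : A ⟶ B) (ψ : B ⟶ C) (U : Z.Opens) (x : Γ(A, U)) :
    (φ ≫ ψ).app U x = ψ.app U (φ.app U x) := rfl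

theorem app_id {Z : Scheme.{u}} {A : Z.Modules} (U : Z.Opens) (x : Γ(A, U)) :
    (𝟙 A : A ⟶ A).app U x = x := rfl

attribute [local irreducible] Scalar.conj2

variable {Y T : Scheme.{u}} (q : Y ⟶ T)

/-- A base change of `q`. -/
structure Slice where
  /-- the new base -/
  V : Scheme.{u}
  /-- the base change -/
  P : Scheme.{u}
  /-- the projection -/
  pr : P ⟶ Y
  /-- the structure map -/
  sn : P ⟶ V
  /-- the base change map -/
  v : V ⟶ T
  sq : IsPullback pr sn q v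

variable {q} (s : T ⟶ Y) (hs : s ≫ q = 𝟙 T)

namespace Slice

/-- The section. -/
def σ (K : Slice q) : K.V ⟶ K.P :=
  K.sq.lift (K.v ≫ s) (𝟙 _) (by rw [Category.assoc, hs, Category.comp_id, Category.id_comp])

theorem σ_pr (K : Slice q) : σ s hs K ≫ K.pr = K.v ≫ s := K.sq.lift_fst _ _ _

theorem σ_sn (K : Slice q) : σ s hs K ≫ K.sn = 𝟙 _ := K.sq.lift_snd _ _ _

/-- The map of slices over a map of bases. -/
def map {K K' : Slice q} (α : K.V ⟶ K'.V) (h : α ≫ K'.v = K.v) : K.P ⟶ K'.P :=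
  K'.sq.lift K.pr (K.sn ≫ α) (by rw [Category.assoc, h, K.sq.w])

theorem map_pr {K K' : Slice q} (α : K.V ⟶ K'.V) (h : α ≫ K'.v = K.v) : map α h ≫ K'.pr = K.pr :=
  K'.sq.lift_fst _ _ _

theorem map_sn {K K' : Slice q} (α : K.V ⟶ K'.V) (h : α ≫ K'.v = K.v) : map α h ≫ K'.sn = K.sn ≫ α :=
  K'.sq.lift_snd _ _ _

theorem σ_map {K K' : Slice q} (α : K.V ⟶ K'.V) (h : α ≫ K'.v = K.v) :
    σ s hs K ≫ map α h = α ≫ σ s hs K' := by
  refine K'.sq.hom_ext ?_ ?_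
  · rw [Category.assoc, map_pr, σ_pr, Category.assoc, σ_pr, reassoc_of% h]
  · rw [Category.assoc, map_sn, reassoc_of% (σ_sn s hs K), Category.assoc, σ_sn, Category.comp_id]

theorem map_comp {K K' K'' : Slice q} (α : K.V ⟶ K'.V) (h : α ≫ K'.v = K.v) (β : K'.V ⟶ K''.V)
    (h' : β ≫ K''.v = K'.v) :
    map α h ≫ map β h' = map (α ≫ β) (by rw [Category.assoc, h', h]) := by
  refine K''.sq.hom_ext ?_ ?_
  · rw [Category.assoc, map_pr, map_pr, map_pr]
  · rw [Category.assoc, map_sn, reassoc_of% (map_sn α h), map_sn]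

theorem map_id (K : Slice q) : map (𝟙 K.V) (Category.id_comp _) = 𝟙 K.P := by
  refine K.sq.hom_ext ?_ ?_
  · rw [map_pr, Category.id_comp]
  · rw [map_sn, Category.id_comp, Category.comp_id]

end Slice

variable {ι : Type u} {K : ι → Slice q} {L : ∀ i, (K i).P.Modules}
  (ε : ∀ i, Γ((pb (Slice.σ s hs (K i))).obj (L i), ⊤))

/-- The translated rigidification. -/
def τ {W : Scheme.{u}} {i : ι} (α : W ⟶ (K i).V) :
    Γ((pb (α ≫ Slice.σ s hs (K i))).obj (L i), ⊤) :=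
  R α (rfl : α ≫ Slice.σ s hs (K i) = _) (L i) (W := ⊤) (W' := ⊤) (topLe _) (ε i)

/-- Compatibility with the rigidifications. -/
def Good {J : Slice q} {i j : ι} (α : J.V ⟶ (K i).V) (hα : α ≫ (K i).v = J.v) (β : J.V ⟶ (K j).V)
    (hβ : β ≫ (K j).v = J.v)
    (φ : (pb (Slice.map α hα)).obj (L i) ⟶ (pb (Slice.map β hβ)).obj (L j)) : Prop :=
  (conj2 (Slice.σ s hs J) (Slice.σ_map s hs α hα) (Slice.σ_map s hs β hβ) φ).app ⊤ (τ s hs ε α) =
    τ s hs ε β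

theorem Good.comp {J : Slice q} {i j k : ι} {α : J.V ⟶ (K i).V} {hα : α ≫ (K i).v = J.v} {β : J.V ⟶ (K j).V}
    {hβ : β ≫ (K j).v = J.v} {γ : J.V ⟶ (K k).V} {hγ : γ ≫ (K k).v = J.v}
    {φ : (pb (Slice.map α hα)).obj (L i) ⟶ (pb (Slice.map β hβ)).obj (L j)}
    {ψ : (pb (Slice.map β hβ)).obj (L j) ⟶ (pb (Slice.map γ hγ)).obj (L k)}
    (h : Good s hs ε α hα β hβ φ) (h' : Good s hs ε β hβ γ hγ ψ) : Good s hs ε α hα γ hγ (φ ≫ ψ) := by
  unfold Good at *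
  rw [conj2_comp (Slice.σ s hs J) _ (Slice.σ_map s hs β hβ), app_comp, h, h']

theorem Good.id {J : Slice q} {i : ι} (α : J.V ⟶ (K i).V) (hα : α ≫ (K i).v = J.v) :
    Good s hs ε α hα α hα (𝟙 _) := by
  unfold Good
  rw [conj2_id, app_id]

theorem R_τ {W W' : Scheme.{u}} (g : W' ⟶ W) {i : ι} (γ : W ⟶ (K i).V)
    (h : g ≫ γ ≫ Slice.σ s hs (K i) = (g ≫ γ) ≫ Slice.σ s hs (K i)) :
    R g h (L i) (W := ⊤) (W' := ⊤) (topLe _) (τ s hs ε γ) = τ s hs ε (g ≫ γ) :=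
  R_comp γ g (g ≫ γ) rfl h rfl (L i) (topLe γ) (topLe g) (ε i)

theorem conj_swap {J J' : Slice q} (g : J'.V ⟶ J.V) (hg : g ≫ J.v = J'.v) {i j : ι}
    {α : J.V ⟶ (K i).V} (hα : α ≫ (K i).v = J.v) {β : J.V ⟶ (K j).V} (hβ : β ≫ (K j).v = J.v)
    (φ : (pb (Slice.map α hα)).obj (L i) ⟶ (pb (Slice.map β hβ)).obj (L j))
    (hα' : (g ≫ α) ≫ (K i).v = J'.v) (hβ' : (g ≫ β) ≫ (K j).v = J'.v) :
    conj2 (Slice.σ s hs J') (Slice.σ_map s hs (g ≫ α) hα') (Slice.σ_map s hs (g ≫ β) hβ')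
      (conj2 (Slice.map g hg) (Slice.map_comp g hg α hα) (Slice.map_comp g hg β hβ) φ) =
    conj2 g (Category.assoc g α _).symm (Category.assoc g β _).symm
      (conj2 (Slice.σ s hs J) (Slice.σ_map s hs α hα) (Slice.σ_map s hs β hβ) φ) := by
  rw [conj2_trans (Slice.map g hg) (Slice.map_comp g hg α hα) (Slice.map_comp g hg β hβ)
      (Slice.σ s hs J') (g ≫ Slice.σ s hs J) (Slice.σ_map s hs g hg) (Slice.σ_map s hs (g ≫ α) hα')
      (Slice.σ_map s hs (g ≫ β) hβ') φ,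
    conj2_trans (Slice.σ s hs J) (Slice.σ_map s hs α hα) (Slice.σ_map s hs β hβ) g
      (g ≫ Slice.σ s hs J) rfl (Category.assoc g α _).symm (Category.assoc g β _).symm φ]

theorem Good.pullback {J J' : Slice q} (g : J'.V ⟶ J.V) (hg : g ≫ J.v = J'.v) {i j : ι}
    {α : J.V ⟶ (K i).V} {hα : α ≫ (K i).v = J.v} {β : J.V ⟶ (K j).V} {hβ : β ≫ (K j).v = J.v}
    {φ : (pb (Slice.map α hα)).obj (L i) ⟶ (pb (Slice.map β hβ)).obj (L j)}
    (h : Good s hs ε α hα β hβ φ) :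
    Good s hs ε (g ≫ α) (by rw [Category.assoc, hα, hg]) (g ≫ β) (by rw [Category.assoc, hβ, hg])
      (conj2 (Slice.map g hg) (Slice.map_comp g hg α hα) (Slice.map_comp g hg β hβ) φ) := by
  unfold Good at *
  rw [conj_swap s hs g hg hα hβ φ, ← R_τ s hs ε g α (Category.assoc g α _).symm,
    ← R_app2 g (Category.assoc g α _).symm (Category.assoc g β _).symm
      (conj2 (Slice.σ s hs J) (Slice.σ_map s hs α hα) (Slice.σ_map s hs β hβ) φ), h,
    R_τ s hs ε g β (Category.assoc g β _).symm]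

theorem exists_good_of_eq {J : Slice q} {i j : ι} {α α' : J.V ⟶ (K i).V} {hα : α ≫ (K i).v = J.v}
    {β β' : J.V ⟶ (K j).V} {hβ : β ≫ (K j).v = J.v} (e : α = α') (e' : β = β')
    {φ : (pb (Slice.map α hα)).obj (L i) ⟶ (pb (Slice.map β hβ)).obj (L j)} (h : Good s hs ε α hα β hβ φ) :
    ∃ φ', Good s hs ε α' (e ▸ hα) β' (e' ▸ hβ) φ' := by
  subst e e'
  exact ⟨φ, h⟩

variable (hO : ∀ J : Slice q, Function.Bijective J.sn.appTop)
  (hL : ∀ i, PicF.IsInvertible (L i)) (hε : ∀ i, IsGen _ ⊤ (ε i))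

include hε in
theorem isGen_τ {W : Scheme.{u}} {i : ι} (α : W ⟶ (K i).V) : IsGen _ ⊤ (τ s hs ε α) := by
  rw [τ, R_eq]
  exact isGen_of_isIso_over (isIso_over_of_iso (tr α (rfl : α ≫ Slice.σ s hs (K i) = _) (L i)) _)
    ((isGen_unitSec α (hε i)).res _)

include hO in
theorem scalar_base {J : Slice q} (d : Γ(J.P, ⊤)) :
    J.sn.appTop ((Slice.σ s hs J).appLE ⊤ ⊤ (topLe _) d) = d := by
  obtain ⟨d₀, rfl⟩ := (hO J).2 d
  congr 1
  have h1 : J.sn.appTop ≫ (Slice.σ s hs J).appLE ⊤ ⊤ (topLe _) = 𝟙 _ :=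
    appTop_comp_appLE _ _ (Slice.σ_sn s hs J)
  exact ConcreteCategory.congr_hom h1 d₀

include hO hL hε in
theorem Good.eq {J : Slice q} {i j : ι} {α : J.V ⟶ (K i).V} {hα : α ≫ (K i).v = J.v} {β : J.V ⟶ (K j).V}
    {hβ : β ≫ (K j).v = J.v} {φ φ' : (pb (Slice.map α hα)).obj (L i) ⟶ (pb (Slice.map β hβ)).obj (L j)}
    [IsIso φ'] (h : Good s hs ε α hα β hβ φ) (h' : Good s hs ε α hα β hβ φ') : φ = φ' := by
  have hi : Good s hs ε β hβ α hα (inv φ') := by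
    unfold Good at *
    rw [← h']
    rw [← app_comp, ← conj2_comp, IsIso.hom_inv_id, conj2_id, app_id]
  have hψ := h.comp s hs ε hi
  have hinv := PicLoc.isInvertible_pullback (Slice.map α hα) (hL i)
  obtain ⟨d, hd⟩ := exists_isScalar hinv (φ ≫ inv φ')
  have h1 := app_conj2_scalar hinv hd (Slice.σ s hs J) (Slice.σ_map s hs α hα) ⊤ (τ s hs ε α)
  unfold Good at hψ
  rw [hψ] at h1
  have h2 : (Slice.σ s hs J).appLE ⊤ ⊤ (topLe _) d = 1 := by
    refine ((isGen_τ s hs ε hε α) ⊤ le_rfl).1 ?_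
    simp only [rs_self, one_smul]
    refine Eq.trans ?_ h1.symm
    congr 1
    exact (rf_self _ _).symm
  have h3 : d = 1 := by rw [← scalar_base s hs hO d, h2, map_one]
  have : φ ≫ inv φ' = 𝟙 _ := hd.eq (h3 ▸ IsScalar.one)
  simpa using congrArg (· ≫ φ') this

include hO hL hε in
theorem Good.exists {J : Slice q} {i j : ι} {α : J.V ⟶ (K i).V} {hα : α ≫ (K i).v = J.v} {β : J.V ⟶ (K j).V}
    {hβ : β ≫ (K j).v = J.v} (φ₀ : (pb (Slice.map α hα)).obj (L i) ≅ (pb (Slice.map β hβ)).obj (L j)) :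
    ∃ φ : (pb (Slice.map α hα)).obj (L i) ⟶ (pb (Slice.map β hβ)).obj (L j),
      IsIso φ ∧ Good s hs ε α hα β hβ φ := by
  let σ := Slice.σ s hs J
  let c₀ := conj2 σ (Slice.σ_map s hs α hα) (Slice.σ_map s hs β hβ) φ₀.hom
  haveI : IsIso c₀ := isIso_conj2 σ _ _ φ₀.hom
  have hg : IsGen _ ⊤ (c₀.app ⊤ (τ s hs ε α)) :=
    isGen_of_isIso_over (isIso_over_of_iso (asIso c₀) ⊤) (isGen_τ s hs ε hε α)
  obtain ⟨c, hc⟩ := exists_coord hg (τ s hs ε β)
  have hcu : IsUnit c := isUnit_of_isGen_smul hg (hc ▸ isGen_τ s hs ε hε β)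
  obtain ⟨ψ, hψ⟩ := exists_scalar ((pb (Slice.map β hβ)).obj (L j)) (J.sn.appTop c)
  haveI := isIso_scalar (hcu.map _) hψ
  refine ⟨φ₀.hom ≫ ψ, inferInstance, ?_⟩
  unfold Good
  rw [conj2_comp σ _ (Slice.σ_map s hs β hβ), app_comp]
  rw [app_conj2_scalar (PicLoc.isInvertible_pullback (Slice.map β hβ) (hL j)) hψ σ (Slice.σ_map s hs β hβ) ⊤, hc]
  congr 1
  have h1 : J.sn.appTop ≫ σ.appLE ⊤ ⊤ (topLe _) = 𝟙 _ :=
    appTop_comp_appLE _ _ (Slice.σ_sn s hs J)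
  exact (rf_self _ _).trans (ConcreteCategory.congr_hom h1 c)

variable (K) in
/-- The double overlaps. -/
def K2 (i j : ι) : Slice q where
  V := pullback (K i).v (K j).v
  P := pullback q (pullback.fst (K i).v (K j).v ≫ (K i).v)
  pr := pullback.fst _ _
  sn := pullback.snd _ _
  v := pullback.fst (K i).v (K j).v ≫ (K i).v
  sq := IsPullback.of_hasPullback _ _

/-- First projection of the double overlap. -/
def p₁ (i j : ι) : (K2 K i j).V ⟶ (K i).V := pullback.fst (K i).v (K j).v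

/-- Second projection of the double overlap. -/
def p₂ (i j : ι) : (K2 K i j).V ⟶ (K j).V := pullback.snd (K i).v (K j).v

theorem p₁_v (i j : ι) : p₁ (K := K) i j ≫ (K i).v = (K2 K i j).v := rfl

theorem p₂_v (i j : ι) : p₂ (K := K) i j ≫ (K j).v = (K2 K i j).v := pullback.condition.symm

theorem ext2 {W : Scheme.{u}} {i j : ι} {x y : W ⟶ (K2 K i j).V} (h₁ : x ≫ p₁ i j = y ≫ p₁ i j)
    (h₂ : x ≫ p₂ i j = y ≫ p₂ i j) : x = y :=
  pullback.hom_ext h₁ h₂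

/-- Maps into the base of a double overlap. -/
def lift2 {W : Scheme.{u}} {i j : ι} (x : W ⟶ (K i).V) (y : W ⟶ (K j).V) (h : x ≫ (K i).v = y ≫ (K j).v) :
    W ⟶ (K2 K i j).V :=
  pullback.lift x y h

theorem lift2_p₁ {W : Scheme.{u}} {i j : ι} (x : W ⟶ (K i).V) (y : W ⟶ (K j).V)
    (h : x ≫ (K i).v = y ≫ (K j).v) : lift2 x y h ≫ p₁ i j = x :=
  pullback.lift_fst _ _ _

theorem lift2_p₂ {W : Scheme.{u}} {i j : ι} (x : W ⟶ (K i).V) (y : W ⟶ (K j).V)
    (h : x ≫ (K i).v = y ≫ (K j).v) : lift2 x y h ≫ p₂ i j = y :=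
  pullback.lift_snd _ _ _

theorem lift2_v {W : Scheme.{u}} {i j : ι} (x : W ⟶ (K i).V) (y : W ⟶ (K j).V)
    (h : x ≫ (K i).v = y ≫ (K j).v) : lift2 x y h ≫ (K2 K i j).v = x ≫ (K i).v := by
  rw [← p₁_v, ← Category.assoc, lift2_p₁]

variable (hiso : ∀ i j, Nonempty ((pb (Slice.map (p₁ i j) (p₁_v (K := K) i j))).obj (L i) ≅
    (pb (Slice.map (p₂ i j) (p₂_v (K := K) i j))).obj (L j)))

/-- The transition isomorphisms. -/
def θ (i j : ι) := (Good.exists s hs ε hO hL hε (hiso i j).some).choose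

theorem θ_iso (i j : ι) : IsIso (θ s hs ε hO hL hε hiso i j) :=
  (Good.exists s hs ε hO hL hε (hiso i j).some).choose_spec.1

theorem θ_good (i j : ι) : Good s hs ε (p₁ i j) (p₁_v i j) (p₂ i j) (p₂_v i j) (θ s hs ε hO hL hε hiso i j) :=
  (Good.exists s hs ε hO hL hε (hiso i j).some).choose_spec.2

variable {W : Scheme.{u}}

/-- The map to the double overlap. -/
def k2 {i j : ι} (a : W ⟶ (K i).P) (b : W ⟶ (K j).P) (h : a ≫ (K i).pr = b ≫ (K j).pr) : W ⟶ (K2 K i j).P :=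
  (K2 K i j).sq.lift (a ≫ (K i).pr) (pullback.lift (a ≫ (K i).sn) (b ≫ (K j).sn)
    (by rw [Category.assoc, Category.assoc, ← (K i).sq.w, ← (K j).sq.w, reassoc_of% h])) (by
    show (a ≫ (K i).pr) ≫ q = pullback.lift _ _ _ ≫ pullback.fst _ _ ≫ (K i).v
    rw [pullback.lift_fst_assoc, Category.assoc, Category.assoc, (K i).sq.w])

theorem k2_pr {i j : ι} (a : W ⟶ (K i).P) (b : W ⟶ (K j).P) (h : a ≫ (K i).pr = b ≫ (K j).pr) :
    k2 a b h ≫ (K2 K i j).pr = a ≫ (K i).pr :=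
  (K2 K i j).sq.lift_fst _ _ _

theorem k2_sn_fst {i j : ι} (a : W ⟶ (K i).P) (b : W ⟶ (K j).P) (h : a ≫ (K i).pr = b ≫ (K j).pr) :
    (k2 a b h ≫ (K2 K i j).sn) ≫ p₁ i j = a ≫ (K i).sn :=
  (congrArg (· ≫ p₁ i j) ((K2 K i j).sq.lift_snd _ _ _)).trans (pullback.lift_fst _ _ _)

theorem k2_sn_snd {i j : ι} (a : W ⟶ (K i).P) (b : W ⟶ (K j).P) (h : a ≫ (K i).pr = b ≫ (K j).pr) :
    (k2 a b h ≫ (K2 K i j).sn) ≫ p₂ i j = b ≫ (K j).sn :=
  (congrArg (· ≫ p₂ i j) ((K2 K i j).sq.lift_snd _ _ _)).trans (pullback.lift_snd _ _ _)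

theorem k2_fst {i j : ι} (a : W ⟶ (K i).P) (b : W ⟶ (K j).P) (h : a ≫ (K i).pr = b ≫ (K j).pr) :
    k2 a b h ≫ Slice.map (p₁ i j) (p₁_v i j) = a := by
  refine (K i).sq.hom_ext ?_ ?_
  · rw [Category.assoc, Slice.map_pr, k2_pr]
  · rw [Category.assoc, Slice.map_sn, ← Category.assoc, k2_sn_fst]

theorem k2_snd {i j : ι} (a : W ⟶ (K i).P) (b : W ⟶ (K j).P) (h : a ≫ (K i).pr = b ≫ (K j).pr) :
    k2 a b h ≫ Slice.map (p₂ i j) (p₂_v i j) = b := by
  refine (K j).sq.hom_ext ?_ ?_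
  · rw [Category.assoc, Slice.map_pr, k2_pr, h]
  · rw [Category.assoc, Slice.map_sn, ← Category.assoc, k2_sn_snd]

/-- The gluing maps. -/
def hom {i j : ι} (a : W ⟶ (K i).P) (b : W ⟶ (K j).P) (h : a ≫ (K i).pr = b ≫ (K j).pr) :
    (pb a).obj (L i) ⟶ (pb b).obj (L j) :=
  conj2 (k2 a b h) (k2_fst a b h) (k2_snd a b h) (θ s hs ε hO hL hε hiso i j)

/-- Gluing maps through any slice. -/
theorem hom_eq {J : Slice q} {i j : ι} {α : J.V ⟶ (K i).V} {hα : α ≫ (K i).v = J.v} {β : J.V ⟶ (K j).V}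
    {hβ : β ≫ (K j).v = J.v} {φ : (pb (Slice.map α hα)).obj (L i) ⟶ (pb (Slice.map β hβ)).obj (L j)}
    (hφ : Good s hs ε α hα β hβ φ) (a : W ⟶ (K i).P) (b : W ⟶ (K j).P) (h : a ≫ (K i).pr = b ≫ (K j).pr)
    (k : W ⟶ J.P) (ha : k ≫ Slice.map α hα = a) (hb : k ≫ Slice.map β hβ = b) :
    hom s hs ε hO hL hε hiso a b h = conj2 k ha hb φ := by
  obtain ⟨g, hg₁, hg₂⟩ : ∃ g : J.V ⟶ (K2 K i j).V, g ≫ p₁ i j = α ∧ g ≫ p₂ i j = β :=
    ⟨pullback.lift α β (hα.trans hβ.symm), pullback.lift_fst _ _ _, pullback.lift_snd _ _ _⟩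
  subst hg₁ hg₂
  have hg : g ≫ (K2 K i j).v = J.v := by
    rw [← p₁_v, ← Category.assoc, hα]
  have hG := (θ_good s hs ε hO hL hε hiso i j).pullback s hs ε g hg
  haveI := θ_iso s hs ε hO hL hε hiso i j
  haveI : IsIso (conj2 (Slice.map g hg) (Slice.map_comp g hg _ (p₁_v i j)) (Slice.map_comp g hg _ (p₂_v i j))
      (θ s hs ε hO hL hε hiso i j)) := isIso_conj2 _ _ _ _
  rw [Good.eq s hs ε hO hL hε hφ hG]
  have hk : k ≫ Slice.map g hg = k2 a b h := by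
    refine (K2 K i j).sq.hom_ext ?_ ?_
    · rw [Category.assoc, Slice.map_pr, k2_pr, ← ha, Category.assoc, Slice.map_pr]
    · refine ext2 ?_ ?_
      · refine Eq.trans ?_ (k2_sn_fst a b h).symm
        rw [← ha]
        simp only [Category.assoc, Slice.map_sn, reassoc_of% (Slice.map_sn g hg)]
      · refine Eq.trans ?_ (k2_sn_snd a b h).symm
        rw [← hb]
        simp only [Category.assoc, Slice.map_sn, reassoc_of% (Slice.map_sn g hg)]
  rw [hom, conj2_trans (Slice.map g hg) _ _ k (k2 a b h) hk]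

/-- The descent datum. -/
def dd : QCohDesc.DD (fun i => (K i).pr) where
  obj := L
  qc i := Groth.Agent.Lib.TensorMod.QCohInv.isQCoh_of_isInvertible (hL i)
  hom a b h := hom s hs ε hO hL hε hiso a b h
  hom_self {T' i} a := by
    have hid : 𝟙 (K i).V ≫ (K i).v = (K i).v := Category.id_comp _
    rw [hom_eq s hs ε hO hL hε hiso (Good.id s hs ε (J := K i) (i := i) (𝟙 _) hid) a a rfl a
      (by rw [Slice.map_id, Category.comp_id]) (by rw [Slice.map_id, Category.comp_id]), conj2_id]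
  hom_comp {T' i j l} a b c h h' := by
    let J : Slice q :=
      { V := pullback (K2 K i j).v (K l).v
        P := pullback q (pullback.snd (K2 K i j).v (K l).v ≫ (K l).v)
        pr := pullback.fst _ _
        sn := pullback.snd _ _
        v := pullback.snd (K2 K i j).v (K l).v ≫ (K l).v
        sq := IsPullback.of_hasPullback _ _ }
    let g₁₂ : J.V ⟶ (K2 K i j).V := pullback.fst (K2 K i j).v (K l).v
    let γ : J.V ⟶ (K l).V := pullback.snd (K2 K i j).v (K l).v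
    have hg₁₂ : g₁₂ ≫ (K2 K i j).v = J.v := pullback.condition
    let α := g₁₂ ≫ p₁ (K := K) i j
    let β := g₁₂ ≫ p₂ (K := K) i j
    have hα : α ≫ (K i).v = J.v := by rw [Category.assoc, p₁_v, hg₁₂]
    have hβ : β ≫ (K j).v = J.v := by rw [Category.assoc, p₂_v, hg₁₂]
    let g₂₃ : J.V ⟶ (K2 K j l).V := lift2 β γ hβ
    have hg₂₃ : g₂₃ ≫ (K2 K j l).v = J.v := (lift2_v _ _ _).trans hβ
    have h23₁ : g₂₃ ≫ p₁ j l = β := lift2_p₁ _ _ _
    have h23₂ : g₂₃ ≫ p₂ j l = γ := lift2_p₂ _ _ _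
    have hab : (a ≫ (K i).sn) ≫ (K i).v = (b ≫ (K j).sn) ≫ (K j).v := by
      rw [Category.assoc, Category.assoc, ← (K i).sq.w, ← (K j).sq.w, reassoc_of% h]
    have hac : (a ≫ (K i).pr) ≫ q = (c ≫ (K l).sn) ≫ (K l).v := by
      rw [h.trans h', Category.assoc, Category.assoc, (K l).sq.w]
    let kV : T' ⟶ J.V := pullback.lift (lift2 (a ≫ (K i).sn) (b ≫ (K j).sn) hab) (c ≫ (K l).sn)
      ((lift2_v _ _ _).trans (by rw [← hac, Category.assoc, Category.assoc, (K i).sq.w]))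
    have hkV₁ : kV ≫ g₁₂ = lift2 (a ≫ (K i).sn) (b ≫ (K j).sn) hab := pullback.lift_fst _ _ _
    have hkV₂ : kV ≫ γ = c ≫ (K l).sn := pullback.lift_snd _ _ _
    have hkv : kV ≫ J.v = (a ≫ (K i).pr) ≫ q :=
      (Category.assoc _ _ _).symm.trans ((congrArg (· ≫ (K l).v) hkV₂).trans hac.symm)
    let k : T' ⟶ J.P := J.sq.lift (a ≫ (K i).pr) kV hkv.symm
    have hkpr : k ≫ J.pr = a ≫ (K i).pr := J.sq.lift_fst _ _ _
    have hksn : k ≫ J.sn = kV := J.sq.lift_snd _ _ _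
    have hka : k ≫ Slice.map α hα = a := by
      refine (K i).sq.hom_ext ?_ ?_
      · rw [Category.assoc, Slice.map_pr, hkpr]
      · rw [Category.assoc, Slice.map_sn, reassoc_of% hksn, ← lift2_p₁ (a ≫ (K i).sn) (b ≫ (K j).sn) hab,
          ← hkV₁, Category.assoc]
    have hkb : k ≫ Slice.map β hβ = b := by
      refine (K j).sq.hom_ext ?_ ?_
      · rw [Category.assoc, Slice.map_pr, hkpr, h]
      · rw [Category.assoc, Slice.map_sn, reassoc_of% hksn, ← lift2_p₂ (a ≫ (K i).sn) (b ≫ (K j).sn) hab,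
          ← hkV₁, Category.assoc]
    have hkc : k ≫ Slice.map γ rfl = c := by
      refine (K l).sq.hom_ext ?_ ?_
      · rw [Category.assoc, Slice.map_pr, hkpr, h, h']
      · rw [Category.assoc, Slice.map_sn, reassoc_of% hksn, hkV₂]
    have G₁ := (θ_good s hs ε hO hL hε hiso i j).pullback s hs ε g₁₂ hg₁₂
    obtain ⟨φ₂, hφ₂⟩ : ∃ φ, Good s hs ε (J := J) β hβ γ rfl φ :=
      exists_good_of_eq s hs ε h23₁ h23₂ ((θ_good s hs ε hO hL hε hiso j l).pullback s hs ε g₂₃ hg₂₃)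
    rw [hom_eq s hs ε hO hL hε hiso G₁ a b h k hka hkb, hom_eq s hs ε hO hL hε hiso hφ₂ b c h' k hkb hkc,
      hom_eq s hs ε hO hL hε hiso (G₁.comp s hs ε hφ₂) a c (h.trans h') k hka hkc,
      ← conj2_comp]
  hom_R {T'' T'} g {i j} a b a' b' ha hb h {W W'} e x := by
    have hk : g ≫ k2 a b h = k2 a' b' (by rw [← ha, ← hb, Category.assoc, Category.assoc, h]) := by
      refine (K2 K i j).sq.hom_ext ?_ ?_
      · rw [Category.assoc, k2_pr, k2_pr, ← ha, Category.assoc]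
      · refine ext2 ?_ ?_
        · refine Eq.trans ?_ (k2_sn_fst a' b' _).symm
          rw [← ha]
          simp only [Category.assoc]
          rw [← k2_sn_fst a b h]
          simp only [Category.assoc]
        · refine Eq.trans ?_ (k2_sn_snd a' b' _).symm
          rw [← hb]
          simp only [Category.assoc]
          rw [← k2_sn_snd a b h]
          simp only [Category.assoc]
    show R g hb (L j) e ((conj2 (k2 a b h) _ _ _).app W x) = (conj2 (k2 a' b' _) _ _ _).app W' _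
    rw [R_app2 g ha hb, conj2_trans (k2 a b h) _ _ g _ hk ha hb]

end Groth.Agent.Lib.PicFppf.Rigid
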