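import Groth.Agent.Lib.TensorMod.HomGlue
import Groth.Agent.Lib.Ample.GenLocus
import Groth.Agent.Lib.DescAlg.PbSecHom
import Groth.Agent.H69.LFDesc.Basis

/-!
# Scalar endomorphisms and transport of morphisms along maps
-/

set_option autoImplicit false
set_option linter.style.haveILetI false
universe u

open CategoryTheory CategoryTheory.Limits AlgebraicGeometry Opposite TopologicalSpace
open ZarCoh.FlatBC.PullbackSections
open Groth.Agent.Lib Groth.Agent.Lib.TensorMod Groth.Agent.Lib.TensorMod.Dual Groth.Agent.Lib.TensorMod.Gen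
open Groth.Agent.Lib.TensorMod.Pullback Groth.Agent.Lib.Ample.GenLocus
open Groth.Agent.Lib.DescAlg.PbSec

noncomputable section

namespace Groth.Agent.Lib.PicFppf.Scalar

theorem topLe {W W' : Scheme.{u}} (g : W' ⟶ W) : (⊤ : W'.Opens) ≤ g ⁻¹ᵁ (⊤ : W.Opens) :=
  fun _ _ => trivial

theorem appTop_eq_appLE {W W' : Scheme.{u}} (g : W' ⟶ W) : g.appTop = g.appLE ⊤ ⊤ (topLe g) := by
  rw [Scheme.Hom.appTop, Scheme.Hom.app_eq_appLE]
  rfl

theorem appTop_comp_appLE {W W' : Scheme.{u}} (sn : W' ⟶ W) (σ : W ⟶ W') (h : σ ≫ sn = 𝟙 W) :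
    sn.appTop ≫ σ.appLE ⊤ ⊤ (topLe σ) = 𝟙 _ := by
  rw [← appTop_eq_appLE σ, ← Scheme.Hom.comp_appTop, h, Scheme.Hom.id_appTop]

variable {X : Scheme.{u}} {M : X.Modules}

/-- `φ` is multiplication by `d`. -/
def IsScalar (φ : M ⟶ M) (d : Γ(X, ⊤)) : Prop :=
  ∀ (W : X.Opens) (m : Γ(M, W)), φ.app W m = rf (le_top : W ≤ ⊤) d • m

theorem exists_scalar (M : X.Modules) (d : Γ(X, ⊤)) : ∃ φ : M ⟶ M, IsScalar φ d := by
  refine ⟨SheafOfModules.Hom.mk
    { app := fun V => ModuleCat.ofHom (X := M.val.obj V) (Y := M.val.obj V)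
        { toFun := fun m => (rf (le_top : V.unop ≤ ⊤) d : Γ(X, V.unop)) • (show Γ(M, V.unop) from m)
          map_add' := fun _ _ => smul_add _ _ _
          map_smul' := fun r m => by
            show (rf (le_top : V.unop ≤ ⊤) d : Γ(X, V.unop)) • ((show Γ(X, V.unop) from r) • (show Γ(M, V.unop) from m)) =
              (show Γ(X, V.unop) from r) • ((rf (le_top : V.unop ≤ ⊤) d : Γ(X, V.unop)) • (show Γ(M, V.unop) from m))
            exact smul_comm _ _ _ }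
      naturality := fun {V W} g => ModuleCat.hom_ext (LinearMap.ext fun x => by
        show rf (le_top : W.unop ≤ ⊤) d • rs M g.unop.le (show Γ(M, V.unop) from x) =
          rs M g.unop.le (rf (le_top : V.unop ≤ ⊤) d • (show Γ(M, V.unop) from x))
        rw [rs_smul, rf_rf]) }, fun _ _ => rfl⟩

theorem IsScalar.comp {φ ψ : M ⟶ M} {c d : Γ(X, ⊤)} (h : IsScalar φ c) (h' : IsScalar ψ d) :
    IsScalar (φ ≫ ψ) (d * c) := fun W m => by
  show ψ.app W (φ.app W m) = _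
  rw [h, h', smul_smul]
  congr 1
  exact (map_mul _ _ _).symm

theorem IsScalar.one : IsScalar (𝟙 M) 1 := fun W m => by
  rw [show rf (le_top : W ≤ ⊤) (1 : Γ(X, ⊤)) = 1 from map_one _, one_smul]
  rfl

theorem IsScalar.eq {φ ψ : M ⟶ M} {c : Γ(X, ⊤)} (h : IsScalar φ c) (h' : IsScalar ψ c) : φ = ψ := by
  refine Scheme.Modules.hom_ext _ _ fun W => ?_
  ext m
  exact (h W m).trans (h' W m).symm

theorem isIso_scalar {φ : M ⟶ M} {d : Γ(X, ⊤)} (hd : IsUnit d) (h : IsScalar φ d) : IsIso φ := by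
  obtain ⟨c, hc⟩ := hd.exists_right_inv
  obtain ⟨ψ, hψ⟩ := exists_scalar M c
  refine ⟨ψ, ?_, ?_⟩
  · refine (h.comp hψ).eq ?_
    rw [mul_comm, hc]; exact IsScalar.one
  · refine (hψ.comp h).eq ?_
    rw [hc]; exact IsScalar.one

/-- Every endomorphism of an invertible module is a scalar. -/
theorem exists_isScalar (hM : PicF.IsInvertible M) (φ : M ⟶ M) : ∃ d : Γ(X, ⊤), IsScalar φ d := by
  choose U e hxU he using isInvertible_iff.1 hM
  choose a ha using fun x => exists_coord (he x) (φ.app (U x) (e x))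
  have key : ∀ (x : X) (V : X.Opens) (hV : V ≤ U x) (m : Γ(M, V)), φ.app V m = rf hV (a x) • m := by
    intro x V hV m
    obtain ⟨b, rfl⟩ := (he x V hV).2 m
    show φ.app V (b • rs M hV (e x)) = _
    rw [Scheme.Modules.Hom.app_smul, ← HomGlue.rs_app, ha, rs_smul, smul_smul, smul_smul, mul_comm]
  obtain ⟨d, hd, -⟩ := TopCat.Sheaf.existsUnique_gluing' X.sheaf U ⊤ (fun x => homOfLE le_top)
    (fun x _ => Opens.mem_iSup.2 ⟨x, hxU x⟩) a fun i j => by
      change rf (inf_le_left : U i ⊓ U j ≤ U i) (a i) = rf (inf_le_right : U i ⊓ U j ≤ U j) (a j)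
      refine ((he i).res (inf_le_left : U i ⊓ U j ≤ U i) _ le_rfl).1 ?_
      simp only [rs_self]
      rw [← key i _ inf_le_left, ← key j _ inf_le_right]
  refine ⟨d, fun W m => HomGlue.sections_ext_cover U M (fun x hx => Opens.mem_iSup.2 ⟨x, hxU x⟩) fun x => ?_⟩
  rw [HomGlue.rs_app, rs_smul, key x _ inf_le_right, rf_rf]
  congr 1
  have hdx : rf (le_top : U x ≤ ⊤) d = a x := hd x
  rw [← hdx, rf_rf]

variable {Y Z Z' : Scheme.{u}}

/-- Transport of a morphism between inverse images along a map. -/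
def conj2 {Y₁ Y₂ : Scheme.{u}} {M : Y₁.Modules} {N : Y₂.Modules} (g : Z ⟶ X) {u : X ⟶ Y₁} {u' : X ⟶ Y₂}
    {q : Z ⟶ Y₁} {q' : Z ⟶ Y₂} (h : g ≫ u = q) (h' : g ≫ u' = q')
    (θ : (Scheme.Modules.pullback u).obj M ⟶ (Scheme.Modules.pullback u').obj N) :
    (Scheme.Modules.pullback q).obj M ⟶ (Scheme.Modules.pullback q').obj N :=
  (tr g h M).inv ≫ (Scheme.Modules.pullback g).map θ ≫ (tr g h' N).hom

section

variable {Y₁ Y₂ Y₃ : Scheme.{u}} {M : Y₁.Modules} {N : Y₂.Modules} {P : Y₃.Modules} {u : X ⟶ Y₁}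
  {u' : X ⟶ Y₂} {u'' : X ⟶ Y₃} {q : Z ⟶ Y₁} {q' : Z ⟶ Y₂} {q'' : Z ⟶ Y₃}

theorem R_app2 (g : Z ⟶ X) (h : g ≫ u = q) (h' : g ≫ u' = q')
    (θ : (Scheme.Modules.pullback u).obj M ⟶ (Scheme.Modules.pullback u').obj N) {W : X.Opens} {W' : Z.Opens}
    (e : W' ≤ g ⁻¹ᵁ W) (x : Γ((Scheme.Modules.pullback u).obj M, W)) :
    R g h' N e (θ.app W x) = (conj2 g h h' θ).app W' (R g h M e x) := by
  rw [R_eq, R_eq, ← pbRes_natural]
  show _ = (tr g h' N).hom.app W' (((Scheme.Modules.pullback g).map θ).app W'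
    ((tr g h M).inv.app W' ((tr g h M).hom.app W' _)))
  have e1 : (tr g h M).hom.app W' ≫ (tr g h M).inv.app W' = 𝟙 _ := by
    rw [← Scheme.Modules.Hom.comp_app, Iso.hom_inv_id]
    rfl
  congr 2
  exact (ConcreteCategory.congr_hom e1 _).symm

theorem conj2_comp (g : Z ⟶ X) (h : g ≫ u = q) (h' : g ≫ u' = q') (h'' : g ≫ u'' = q'')
    (θ : (Scheme.Modules.pullback u).obj M ⟶ (Scheme.Modules.pullback u').obj N)
    (θ' : (Scheme.Modules.pullback u').obj N ⟶ (Scheme.Modules.pullback u'').obj P) :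
    conj2 g h h'' (θ ≫ θ') = conj2 g h h' θ ≫ conj2 g h' h'' θ' := by
  simp [conj2]

theorem conj2_id (g : Z ⟶ X) (h : g ≫ u = q) : conj2 g h h (𝟙 ((Scheme.Modules.pullback u).obj M)) = 𝟙 _ := by
  simp [conj2]

theorem conj2_trans (g : Z ⟶ X) (h : g ≫ u = q) (h' : g ≫ u' = q') (g' : Z' ⟶ Z) (g'' : Z' ⟶ X)
    (hg : g' ≫ g = g'') {r : Z' ⟶ Y₁} {r' : Z' ⟶ Y₂} (k : g' ≫ q = r) (k' : g' ≫ q' = r')
    (θ : (Scheme.Modules.pullback u).obj M ⟶ (Scheme.Modules.pullback u').obj N) :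
    conj2 g' k k' (conj2 g h h' θ) =
      conj2 g'' (by rw [← hg, Category.assoc, h, k]) (by rw [← hg, Category.assoc, h', k']) θ := by
  refine hom_ext r fun U m => ?_
  have e₁ : r ⁻¹ᵁ U ≤ g' ⁻¹ᵁ (q ⁻¹ᵁ U) := by rw [← k]; rfl
  have e₂ : q ⁻¹ᵁ U ≤ g ⁻¹ᵁ (u ⁻¹ᵁ U) := by rw [← h]; rfl
  have a1 : R g' k M e₁ (R g h M e₂ (pbRes u M le_rfl m)) = pbRes r M le_rfl m := by
    rw [R_pbRes, R_pbRes]
  rw [← a1, ← R_app2, ← R_app2, R_comp g g' g'' h' k' hg, R_comp g g' g'' h k hg, ← R_app2]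

theorem isIso_conj2 (g : Z ⟶ X) (h : g ≫ u = q) (h' : g ≫ u' = q')
    (θ : (Scheme.Modules.pullback u).obj M ⟶ (Scheme.Modules.pullback u').obj N) [IsIso θ] :
    IsIso (conj2 g h h' θ) := by
  unfold conj2
  infer_instance

/-- Scalars transport to scalars. -/
theorem app_conj2_scalar {θ : (Scheme.Modules.pullback u).obj M ⟶ (Scheme.Modules.pullback u).obj M}
    (hM : PicF.IsInvertible ((Scheme.Modules.pullback u).obj M)) {d : Γ(X, ⊤)} (hθ : IsScalar θ d) (g : Z ⟶ X)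
    (h : g ≫ u = q) : IsScalar (conj2 g h h θ) (g.appLE ⊤ ⊤ (topLe _) d) := by
  intro W x
  choose U e hxU he using isInvertible_iff.1 hM
  refine HomGlue.sections_ext_cover (fun y => g ⁻¹ᵁ U y) _
    (fun z _ => Opens.mem_iSup.2 ⟨g z, hxU _⟩) fun y => ?_
  rw [HomGlue.rs_app, rs_smul]
  have hgen : IsGen ((Scheme.Modules.pullback q).obj M) (g ⁻¹ᵁ U y) (R g h M le_rfl (e y)) := by
    rw [R_eq]
    exact isGen_of_isIso_over (isIso_over_of_iso (tr g h M) _)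
      ((isGen_unitSec g (he y)).res le_rfl)
  obtain ⟨b, hb⟩ := (hgen (W ⊓ g ⁻¹ᵁ U y) inf_le_right).2 (rs _ inf_le_left x)
  simp only at hb
  rw [← hb, Scheme.Modules.Hom.app_smul, ← HomGlue.rs_app, ← R_app2, hθ, R_smul, rs_smul, smul_smul,
    smul_smul, mul_comm]
  congr 2
  simp only [rf, ← CommRingCat.comp_apply, Scheme.Hom.appLE_map, Scheme.Hom.map_appLE]

end

end Groth.Agent.Lib.PicFppf.Scalar
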