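import Groth.Agent.Lib.PicFppf.RelPic
import Groth.Agent.Lib.Exchange.PicExact.Seq
import Groth.Agent.Lib.Exchange.PicSmooth.Main
import Groth.Agent.Lib.FibreVanish36.Coherent
import Groth.Agent.Lib.FibreVanish36.Affine
import Groth.Agent.Lib.Ample.QAffCrit
import Groth.Agent.Lib.Unram.LocalLifting
import Groth.Agent.H34.AbelMono
import Groth.Agent.H95.Torsor.Iso

/-!
# Smoothness of the Picard scheme of a relative curve with a section
-/

set_option autoImplicit false
set_option maxHeartbeats 200000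
set_option linter.style.haveILetI false
universe u

open CategoryTheory CategoryTheory.Limits AlgebraicGeometry
open Groth.Agent.Lib Groth.Agent.Lib.PicFppf.Classes

noncomputable section

namespace Groth.Agent.Lib.PicFppf.Smoothness

local instance (Y : Scheme.{u}) : PicGrp.Law Y := Groth.Agent.Lib.TensorMod.Invertible.law Y

/-- Classes lift along a first order thickening with `H²(J) = 0`. -/
theorem exists_pc_eq {X Z : Scheme.{u}} (p : Z ⟶ X) [IsClosedImmersion p] (hJ : p.ker * p.ker = ⊥)
    (h2 : Subsingleton (Coh.HH X (ClSub.idealMod p.ker) 2)) (b : PicLoc.PicSet Z) :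
    ∃ a, pc p a = b := by
  let J := p.ker
  let b' : PicLoc.PicSet J.subscheme := pc (inv p.toImage) b
  have hb : Exchange.PicExact.delta1 J hJ b' = 1 :=
    Multiplicative.toAdd.injective (h2.elim _ _)
  rw [← MonoidHom.mem_ker, Exchange.PicExact.delta1_ker J hJ (TensorMod.Pullback.pullMul _)] at hb
  obtain ⟨a, ha⟩ := hb
  refine ⟨a, ?_⟩
  have h1 : pc p a = pc p.toImage (pc J.subschemeι a) := by
    rw [← pc_comp]
    exact pc_congr p.toImage_imageι.symm a
  rw [h1, show pc J.subschemeι a = b' from ha, ← pc_comp, IsIso.hom_inv_id, pc_id]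

variable {X S : Scheme.{u}} (f : X ⟶ S) [IsProper f] [Flat f]
  (hdim : ∀ s : S, topologicalKrullDim ↥(f.fiber s) ≤ 1)

include hdim in
/-- Classes lift along square-zero thickenings of affine bases. -/
theorem pc_surjective {B B' : Type u} [CommRing B] [CommRing B'] (φ : B' →+* B)
    (hφ : Function.Surjective φ) (hker : RingHom.ker φ ^ 2 = ⊥)
    (β : Spec (CommRingCat.of B') ⟶ S)
    (ih : Over.mk (Spec.map (CommRingCat.ofHom φ) ≫ β) ⟶ Over.mk β)
    (hih : ih.left = Spec.map (CommRingCat.ofHom φ))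
    (b : PicLoc.PicSet (PicF.XT f (Over.mk (Spec.map (CommRingCat.ofHom φ) ≫ β)))) :
    ∃ a, pc (PicF.XTmap f ih) a = b := by
  have h1 := Exchange.PicSmooth.Main.isPullback_XTmap f ih
  rw [hih] at h1
  have hc := H95.Torsor.cuts_of_isPullback (A := CommRingCat.of B') (f := PicF.XTproj f (Over.mk β))
    (CommRingCat.ofHom φ) hφ h1
  haveI := hc.closed
  refine exists_pc_eq _ (Scheme.IdealSheafData.ext (funext fun U => ?_)) ?_ b
  · show (PicF.XTmap f ih).ker.ideal U * (PicF.XTmap f ih).ker.ideal U = ⊥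
    rw [Scheme.Hom.ker_apply, hc.ker U, ← Ideal.map_mul]
    rw [show RingHom.ker (CommRingCat.ofHom φ).hom * RingHom.ker (CommRingCat.ofHom φ).hom = ⊥ from
      (pow_two _).symm.trans hker, Ideal.map_bot]
  · haveI := Ample.QAffCrit.isQCoh_idealMod (PicF.XTmap f ih).ker
    haveI : IsProper (PicF.XTproj f (Over.mk β)) := inferInstanceAs (IsProper (pullback.snd f β))
    haveI : IsAffine (Over.mk β).left := inferInstanceAs (IsAffine (Spec (CommRingCat.of B')))
    exact FibreVanish36.Affine.subsingleton_HH FibreVanish36.Coherent.cohVanish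
      (PicF.XTproj f (Over.mk β)) 1
      (fun t => (H34.AbelMono.dim_fiber_baseChange f (IsPullback.of_hasPullback f β) t).trans_le (hdim _))
      _ 1 le_rfl

variable [LocallyOfFinitePresentation f] (σ : S ⟶ X) (hσ : σ ≫ f = 𝟙 S)
  (ha : ∀ (T : Over S) (U : T.left.Opens), IsIso ((PicF.XTproj f T).app U))
  {P : Over S} {φP : ∀ T : Over S, PicF.Cl (PicF.XT f T) → (T ⟶ P)}
  (hP : AbDual.IsRelPicK Scheme.fppfPrecoverage f P φP)

include hdim σ hσ ha hP in
/-- **Smoothness** of the representing scheme. -/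
theorem smooth [LocallyOfFinitePresentation P.hom] : Smooth P.hom := by
  refine Scheme.Hom.smoothLocus_eq_top_iff.1 (eq_top_iff.2 fun x _ => ?_)
  rw [Scheme.Hom.mem_smoothLocus]
  refine (Unram.LocalLifting.formallySmooth_iff P.hom x).2 ?_
  intro B B' _ _ _ _ φ hφ hker α β _ hc
  let T : Over S := Over.mk (Spec.map (CommRingCat.ofHom φ) ≫ β)
  let ih : T ⟶ Over.mk β := Over.homMk (Spec.map (CommRingCat.ofHom φ)) rfl
  let g : T ⟶ P := Over.homMk α hc.symm
  obtain ⟨c, -, hcg⟩ := RelPic.surjective f σ hσ ha hP T g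
  obtain ⟨a, hac⟩ := pc_surjective f hdim φ hφ hker β ih rfl c
  have h := RelPic.φ_natural f hP ih a
  rw [hac, hcg] at h
  exact ⟨(φP (Over.mk β) a.1).left, (congrArg Over.Hom.left h).symm, Over.w (φP (Over.mk β) a.1)⟩

end Groth.Agent.Lib.PicFppf.Smoothness
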